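import Groth.Agent.EGA43.FlatDescent.Global
import Mathlib.AlgebraicGeometry.Morphisms.FinitePresentation
import Mathlib.RingTheory.Flat.Localization
import Mathlib.RingTheory.RingHom.Flat
import Mathlib.AlgebraicGeometry.Morphisms.Flat

/-!
# The flat locus of a morphism locally of finite presentation is open
-/

universe u

set_option autoImplicit false
set_option backward.isDefEq.respectTransparency false

open CategoryTheory AlgebraicGeometry

namespace Groth.Agent.EGA43.FlatDescent

/-- Flatness of `localRingHom`, read off the localised module. -/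
theorem flat_localRingHom_iff {R S : Type u} [CommRing R] [CommRing S] [Algebra R S]
    (p : Ideal R) [p.IsPrime] (q : Ideal S) [q.IsPrime] (h : p = q.comap (algebraMap R S)) :
    (Localization.localRingHom p q (algebraMap R S) h).Flat ↔
      Module.Flat R (LocalizedModule q.primeCompl S) := by
  let φ := Localization.localRingHom p q (algebraMap R S) h
  let _ := φ.toAlgebra
  have : IsScalarTower R (Localization.AtPrime p) (Localization.AtPrime q) :=
    .of_algebraMap_eq fun r => by
      rw [IsScalarTower.algebraMap_apply R S (Localization.AtPrime q)]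
      exact (Localization.localRingHom_to_map p q _ h r).symm
  show Module.Flat (Localization.AtPrime p) (Localization.AtPrime q) ↔ _
  exact Module.flat_iff_of_isLocalization (Localization.AtPrime p) p.primeCompl
    (Localization.AtPrime q)

/-- The flat locus of a morphism locally of finite presentation is open. -/
theorem isOpen_flat_stalkMap {X S : Scheme.{u}} (f : X ⟶ S) [LocallyOfFinitePresentation f] :
    IsOpen {x : X | (f.stalkMap x).hom.Flat} := by
  rw [isOpen_iff_forall_mem_open]
  intro x hx
  obtain ⟨U, hU, hfx, -⟩ := TopologicalSpace.Opens.isBasis_iff_nbhd.mp S.isBasis_affineOpens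
    (TopologicalSpace.Opens.mem_top (f x))
  obtain ⟨V, hV, hxV, e⟩ := TopologicalSpace.Opens.isBasis_iff_nbhd.mp X.isBasis_affineOpens
    (show x ∈ f ⁻¹ᵁ U from hfx)
  let φ := (f.appLE U V e).hom
  let _ := φ.toAlgebra
  have : Algebra.FinitePresentation Γ(S, U) Γ(X, V) :=
    HasRingHomProperty.appLE @LocallyOfFinitePresentation f inferInstance ⟨U, hU⟩ ⟨V, hV⟩ e
  have key : ∀ y : X, ∀ hy : y ∈ V, (f.stalkMap y).hom.Flat ↔
      hV.primeIdealOf ⟨y, hy⟩ ∈ {q : PrimeSpectrum Γ(X, V) |
        Module.Flat Γ(S, U) (LocalizedModule q.asIdeal.primeCompl Γ(X, V))} := fun y hy => by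
    rw [RingHom.Flat.respectsIso.arrow_mk_iso_iff (IsAffineOpen.arrowStalkMapIso f U hU V hV e hy)]
    exact flat_localRingHom_iff (R := Γ(S, U)) (S := Γ(X, V)) _ _
      congr($(IsAffineOpen.comap_primeIdealOf_appLE U hU V hV e hy).1).symm
  refine ⟨hV.fromSpec '' {q : PrimeSpectrum Γ(X, V) |
      Module.Flat Γ(S, U) (LocalizedModule q.asIdeal.primeCompl Γ(X, V))}, ?_,
    hV.fromSpec.isOpenEmbedding.isOpenMap _ isOpen_setOf_flat, ?_⟩
  · rintro _ ⟨q, hq, rfl⟩
    have hy : hV.fromSpec q ∈ V := by
      have : hV.fromSpec q ∈ Set.range hV.fromSpec := ⟨q, rfl⟩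
      rwa [hV.range_fromSpec] at this
    refine (key _ hy).2 ?_
    rwa [show hV.primeIdealOf ⟨_, hy⟩ = q from
      hV.fromSpec.isOpenEmbedding.injective (hV.fromSpec_primeIdealOf _)]
  · exact ⟨hV.primeIdealOf ⟨x, hxV⟩, (key x hxV).1 hx, hV.fromSpec_primeIdealOf _⟩

end Groth.Agent.EGA43.FlatDescent
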