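import Groth.Agent.EGA43.FlatDescent.BC
import Mathlib.RingTheory.TensorProduct.MvPolynomial
import Mathlib.RingTheory.FinitePresentation
import Mathlib.Algebra.Module.FinitePresentation
import Mathlib.RingTheory.Adjoin.FG
import Mathlib.LinearAlgebra.TensorProduct.Pi

/-!
# Noetherian models of finitely presented modules over finitely presented algebras
-/

universe u

set_option autoImplicit false
set_option backward.isDefEq.respectTransparency false

open TensorProduct Function MvPolynomial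

namespace Groth.Agent.EGA43.FlatDescent

attribute [local instance] bcModule

section Transport

variable {A S₁ S₂ N₁ N₂ : Type u} [CommRing A] [CommRing S₁] [CommRing S₂] [Algebra A S₁]
  [Algebra A S₂] [AddCommGroup N₁] [Module A N₁] [Module S₁ N₁] [IsScalarTower A S₁ N₁]
  [AddCommGroup N₂] [Module A N₂] [Module S₂ N₂] [IsScalarTower A S₂ N₂]
  (ψ : S₁ →+* S₂) (hψ : Surjective ψ) (e : N₁ ≃ₗ[A] N₂) (he : ∀ s x, e (s • x) = ψ s • e x)

include he in
theorem rTensor_equivariant {X : Type u} [AddCommGroup X] [Module A X] (s : S₁)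
    (z : N₁ ⊗[A] X) : e.toLinearMap.rTensor X (s • z) = ψ s • e.toLinearMap.rTensor X z := by
  induction z using TensorProduct.induction_on with
  | zero => simp
  | add u v hu hv => simp only [smul_add, map_add, hu, hv]
  | tmul n x =>
    simp only [TensorProduct.smul_tmul', LinearMap.rTensor_tmul, LinearEquiv.coe_coe, he]

include hψ he in
/-- Transport of flatness at a prime along a surjection of algebras. -/
theorem flat_localized_iff (q : Ideal S₂) [q.IsPrime] [(q.comap ψ).IsPrime] :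
    Module.Flat A (LocalizedModule (q.comap ψ).primeCompl N₁) ↔
      Module.Flat A (LocalizedModule q.primeCompl N₂) := by
  have hnat : ∀ {X Y : Type u} [AddCommGroup X] [Module A X] [AddCommGroup Y] [Module A Y]
      (i : X →ₗ[A] Y) (z : N₁ ⊗[A] X),
      e.toLinearMap.rTensor Y (i.lTensor N₁ z) = i.lTensor N₂ (e.toLinearMap.rTensor X z) :=
    fun i z => by rw [← LinearMap.comp_apply, LinearMap.rTensor_comp_lTensor,
      ← LinearMap.lTensor_comp_rTensor, LinearMap.comp_apply]
  constructor <;> intro h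
  · refine (@Module.Flat.iff_rTensor_preserves_injective_linearMap A
      (LocalizedModule q.primeCompl N₂) _ _ _).2 fun X Y _ _ _ _ i hi =>
        FlatOpen.rTensor_injective_localized i _ fun z hz => ?_
    obtain ⟨z, rfl⟩ := (e.rTensor X).surjective z
    have hz1 : i.lTensor N₁ z = 0 := by
      apply (e.rTensor Y).injective
      rw [map_zero]
      exact (hnat i z).trans hz
    obtain ⟨t, ht, htz⟩ := FlatOpen.exists_smul_eq_zero_of_flat i hi (q.comap ψ).primeCompl z hz1
    refine ⟨ψ t, ht, ?_⟩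
    show ψ t • e.toLinearMap.rTensor X z = 0
    rw [← rTensor_equivariant ψ e he, htz, map_zero]
  · refine (@Module.Flat.iff_rTensor_preserves_injective_linearMap A
      (LocalizedModule (q.comap ψ).primeCompl N₁) _ _ _).2 fun X Y _ _ _ _ i hi =>
        FlatOpen.rTensor_injective_localized i _ fun z hz => ?_
    obtain ⟨t, ht, htz⟩ := FlatOpen.exists_smul_eq_zero_of_flat i hi q.primeCompl
      (e.toLinearMap.rTensor X z) (by
        show i.lTensor N₂ _ = 0
        rw [← hnat, show i.lTensor N₁ z = 0 from hz, map_zero])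
    obtain ⟨t, rfl⟩ := hψ t
    refine ⟨t, ht, (e.rTensor X).injective ?_⟩
    rw [map_zero]
    exact (rTensor_equivariant ψ e he t z).trans htz

end Transport

/-- Semilinearity may be checked on pure tensors. -/
theorem map_smul_of_tmul {R P M A : Type u} [CommRing R] [CommRing P] [Algebra R P]
    [AddCommGroup M] [Module R M] [Module P M] [IsScalarTower R P M] [CommRing A] [Algebra R A]
    {Q X : Type u} [CommRing Q] [AddCommGroup X] [Module Q X] (ψ : A ⊗[R] P →+* Q)
    (f : A ⊗[R] M →+ X)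
    (h : ∀ a p c m, f ((a ⊗ₜ[R] p) • (c ⊗ₜ[R] m)) = ψ (a ⊗ₜ[R] p) • f (c ⊗ₜ[R] m))
    (t : A ⊗[R] P) (x : A ⊗[R] M) : f (t • x) = ψ t • f x := by
  induction x using TensorProduct.induction_on with
  | zero => simp
  | add u v hu hv => simp only [smul_add, map_add, hu, hv]
  | tmul c m =>
    induction t using TensorProduct.induction_on with
    | zero => simp
    | add t t' h h' => simp only [add_smul, map_add, h, h']
    | tmul a p => exact h a p c m

variable {A : Type u} [CommRing A] {n k : ℕ}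

set_option maxHeartbeats 800000 in
theorem exists_model (K : Submodule (MvPolynomial (Fin n) A) (Fin k → MvPolynomial (Fin n) A))
    (hK : K.FG) :
    ∃ R₀ : Subalgebra ℤ A, IsNoetherianRing R₀ ∧
      ∃ (K₀ : Submodule (MvPolynomial (Fin n) R₀) (Fin k → MvPolynomial (Fin n) R₀))
        (e : A ⊗[R₀] ((Fin k → MvPolynomial (Fin n) R₀) ⧸ K₀) ≃ₗ[A]
          ((Fin k → MvPolynomial (Fin n) A) ⧸ K)),
        ∀ (t : A ⊗[R₀] MvPolynomial (Fin n) R₀) x, e (t • x) = algebraTensorAlgEquiv R₀ A t • e x := by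
  classical
  obtain ⟨s, hs⟩ := hK
  let coeffset : Set A := ⋃ w ∈ s, ⋃ j, ((w j).coeffs : Set A)
  have hfin : coeffset.Finite :=
    s.finite_toSet.biUnion fun w _ => Set.finite_iUnion fun j => Finset.finite_toSet _
  let R₀ : Subalgebra ℤ A := Algebra.adjoin ℤ coeffset
  refine ⟨R₀, isNoetherianRing_of_fg (Subalgebra.fg_def.2 ⟨_, hfin, rfl⟩), ?_⟩
  have hlift : ∀ w : s, ∀ j, ∃ p : MvPolynomial (Fin n) R₀,
      MvPolynomial.map (algebraMap R₀ A) p = w.1 j := fun w j => by
    rw [← RingHom.mem_range, ← SetLike.mem_coe, RingHom.coe_range,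
      MvPolynomial.mem_range_map_iff_coeffs_subset]
    intro c hc
    exact ⟨⟨c, Algebra.subset_adjoin (Set.mem_biUnion w.2 (Set.mem_iUnion.2 ⟨j, hc⟩))⟩, rfl⟩
  choose w₀ hw₀ using hlift
  let K₀ : Submodule (MvPolynomial (Fin n) R₀) (Fin k → MvPolynomial (Fin n) R₀) := Submodule.span (MvPolynomial (Fin n) R₀) (Set.range w₀)
  let ψ := algebraTensorAlgEquiv (σ := Fin n) R₀ A
  let ι : (Fin k → MvPolynomial (Fin n) R₀) →ₗ[R₀] (Fin k → MvPolynomial (Fin n) A) :=
    LinearMap.pi fun j => (MvPolynomial.mapAlgHom (Algebra.ofId R₀ A)).toLinearMap ∘ₗ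
      LinearMap.proj j
  have hι : ∀ x j, ι x j = MvPolynomial.map (algebraMap R₀ A) (x j) := fun x j => rfl
  let eF : A ⊗[R₀] (Fin k → MvPolynomial (Fin n) R₀) ≃ₗ[A] (Fin k → MvPolynomial (Fin n) A) :=
    TensorProduct.piRight R₀ A A (fun _ : Fin k => MvPolynomial (Fin n) R₀) ≪≫ₗ
      LinearEquiv.piCongrRight fun _ => ψ.toLinearEquiv
  have heF : ∀ a x, eF (a ⊗ₜ x) = a • ι x := fun a x => by
    funext j
    show ψ (a ⊗ₜ x j) = a • ι x j
    rw [algebraTensorAlgEquiv_tmul, hι]
  have hι_smul : ∀ (p : (MvPolynomial (Fin n) R₀)) x, ι (p • x) = MvPolynomial.map (algebraMap R₀ A) p • ι x :=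
    fun p x => funext fun j => map_mul (MvPolynomial.map (algebraMap R₀ A)) p (x j)
  have heF_smul : ∀ (t : A ⊗[R₀] MvPolynomial (Fin n) R₀) x, eF (t • x) = ψ t • eF x := fun t x => by
    refine map_smul_of_tmul ψ.toRingEquiv.toRingHom eF.toAddEquiv.toAddMonoidHom (fun a p c f => ?_) t x
    show eF _ = ψ (a ⊗ₜ p) • eF _
    rw [bc_smul_tmul, heF, heF, hι_smul, algebraTensorAlgEquiv_tmul, smul_comm (a • _) c,
      smul_assoc, smul_smul, mul_comm]
  have hK₀ : ∀ x ∈ K₀, ι x ∈ K := fun x hx => by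
    induction hx using Submodule.span_induction with
    | mem x hx =>
      obtain ⟨w, rfl⟩ := hx
      rw [← hs, show ι (w₀ w) = w.1 from funext fun j => (hι _ j).trans (hw₀ w j)]
      exact Submodule.subset_span w.2
    | zero => rw [map_zero]; exact zero_mem _
    | add x y _ _ hx hy => rw [map_add]; exact add_mem hx hy
    | smul p x _ hx => rw [hι_smul]; exact K.smul_mem _ hx
  let j₀ : ((Fin k → MvPolynomial (Fin n) R₀) ⧸ K₀) →ₗ[R₀] (Fin k → MvPolynomial (Fin n) A) ⧸ K :=
    (K₀.restrictScalars R₀).liftQ ((K.mkQ.restrictScalars R₀) ∘ₗ ι) (by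
      intro x hx
      rw [LinearMap.mem_ker]
      show K.mkQ (ι x) = 0
      rw [Submodule.mkQ_apply, Submodule.Quotient.mk_eq_zero]
      exact hK₀ x hx) ∘ₗ
    (Submodule.Quotient.restrictScalarsEquiv R₀ K₀).symm.toLinearMap
  let Φ : A ⊗[R₀] ((Fin k → MvPolynomial (Fin n) R₀) ⧸ K₀) →ₗ[A] (Fin k → MvPolynomial (Fin n) A) ⧸ K := j₀.liftBaseChange A
  let q₀ : A ⊗[R₀] (Fin k → MvPolynomial (Fin n) R₀) →ₗ[R₀] A ⊗[R₀] ((Fin k → MvPolynomial (Fin n) R₀) ⧸ K₀) := (K₀.mkQ.restrictScalars R₀).lTensor A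
  have hq₀ : Surjective q₀ := LinearMap.lTensor_surjective A K₀.mkQ_surjective
  have hΦq : ∀ x, Φ (q₀ x) = K.mkQ (eF x) := fun x => by
    induction x using TensorProduct.induction_on with
    | zero => simp
    | add u v hu hv => simp only [map_add, hu, hv]
    | tmul a f =>
      rw [heF, LinearMap.map_smul_of_tower]
      show Φ (a ⊗ₜ K₀.mkQ f) = _
      rw [LinearMap.liftBaseChange_tmul]
      rfl
  have hq₀_smul : ∀ (t : A ⊗[R₀] MvPolynomial (Fin n) R₀) x, q₀ (t • x) = t • q₀ x := fun t x => by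
    refine map_smul_of_tmul (RingHom.id _) q₀.toAddMonoidHom (fun a p c f => ?_) t x
    show q₀ ((a ⊗ₜ[R₀] p) • (c ⊗ₜ[R₀] f)) = (a ⊗ₜ[R₀] p) • (c ⊗ₜ[R₀] K₀.mkQ f)
    rw [bc_smul_tmul, bc_smul_tmul, ← map_smul]
    rfl
  have hker : ∀ y ∈ K, q₀ (eF.symm y) = 0 := fun y hy => by
    rw [← hs] at hy
    induction hy using Submodule.span_induction with
    | mem w hw =>
      have : eF.symm w = (1 : A) ⊗ₜ[R₀] w₀ ⟨w, hw⟩ := by
        rw [LinearEquiv.symm_apply_eq, heF, one_smul]
        exact funext fun j => ((hι _ j).trans (hw₀ ⟨w, hw⟩ j)).symm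
      rw [this]
      show (1 : A) ⊗ₜ[R₀] K₀.mkQ (w₀ ⟨w, hw⟩) = 0
      rw [Submodule.mkQ_apply, (Submodule.Quotient.mk_eq_zero K₀).2 (Submodule.subset_span ⟨_, rfl⟩),
        tmul_zero]
    | zero => simp
    | add x y _ _ hx hy => simp only [map_add, hx, hy, add_zero]
    | smul c x _ hx =>
      have : eF.symm (c • x) = ψ.symm c • eF.symm x := by
        rw [LinearEquiv.symm_apply_eq, heF_smul, AlgEquiv.apply_symm_apply,
          LinearEquiv.apply_symm_apply]
      rw [this, hq₀_smul, hx, smul_zero]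
  have hbij : Bijective Φ := by
    refine ⟨(injective_iff_map_eq_zero Φ).2 fun z hz => ?_, fun y => ?_⟩
    · obtain ⟨x, rfl⟩ := hq₀ z
      rw [hΦq, Submodule.mkQ_apply, Submodule.Quotient.mk_eq_zero] at hz
      rw [← eF.symm_apply_apply x, hker _ hz]
    · obtain ⟨y, rfl⟩ := K.mkQ_surjective y
      exact ⟨q₀ (eF.symm y), by rw [hΦq, LinearEquiv.apply_symm_apply]⟩
  refine ⟨K₀, LinearEquiv.ofBijective Φ hbij, fun t x => ?_⟩
  obtain ⟨x, rfl⟩ := hq₀ x
  simp only [LinearEquiv.ofBijective_apply]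
  rw [← hq₀_smul, hΦq, hΦq, heF_smul, map_smul]

set_option maxHeartbeats 1000000 in
/-- Every finitely presented module over a finitely presented algebra has a Noetherian model. -/
theorem exists_model_of_finitePresentation {S N : Type u} [CommRing S] [Algebra A S]
    [Algebra.FinitePresentation A S] [AddCommGroup N] [Module S N] [Module A N]
    [IsScalarTower A S N] [Module.FinitePresentation S N] :
    ∃ (R₀ : Subalgebra ℤ A) (_ : IsNoetherianRing R₀) (P₀ M₀ : Type u) (_ : CommRing P₀)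
      (_ : Algebra R₀ P₀) (_ : AddCommGroup M₀) (_ : Module R₀ M₀) (_ : Module P₀ M₀)
      (_ : IsScalarTower R₀ P₀ M₀) (_ : Algebra.FiniteType R₀ P₀) (_ : Module.Finite P₀ M₀)
      (ψ : A ⊗[R₀] P₀ →ₐ[A] S) (e : A ⊗[R₀] M₀ ≃ₗ[A] N),
        Surjective ψ ∧ ∀ t x, e (t • x) = ψ t • e x := by
  obtain ⟨n, π, hπ, hker⟩ := ‹Algebra.FinitePresentation A S›.out
  let _ : Algebra (MvPolynomial (Fin n) A) S := π.toRingHom.toAlgebra
  have : IsScalarTower A (MvPolynomial (Fin n) A) S :=
    .of_algebraMap_eq fun a => (π.commutes a).symm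
  have : Module.FinitePresentation (MvPolynomial (Fin n) A) S :=
    Module.finitePresentation_of_surjective (Algebra.linearMap _ S) hπ hker
  let _ : Module (MvPolynomial (Fin n) A) N := Module.compHom N π.toRingHom
  have : IsScalarTower (MvPolynomial (Fin n) A) S N :=
    IsScalarTower.of_algebraMap_smul fun _ _ => rfl
  have : IsScalarTower A (MvPolynomial (Fin n) A) N :=
    IsScalarTower.of_algebraMap_smul fun a x => by
      show π (algebraMap A _ a) • x = a • x
      rw [π.commutes, algebraMap_smul]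
  have : Module.FinitePresentation (MvPolynomial (Fin n) A) N :=
    Module.FinitePresentation.trans _ N S
  obtain ⟨k, K, eN, hK⟩ := Module.FinitePresentation.exists_fin (MvPolynomial (Fin n) A) N
  obtain ⟨R₀, hR₀, K₀, e, he⟩ := exists_model K hK
  have : Module.Finite (MvPolynomial (Fin n) R₀) (Fin k → MvPolynomial (Fin n) R₀) :=
    @Module.Finite.pi _ _ _ _ _ _ _ (fun _ => Module.Finite.self _)
  have hfin : Module.Finite (MvPolynomial (Fin n) R₀) ((Fin k → MvPolynomial (Fin n) R₀) ⧸ K₀) :=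
    Module.Finite.of_surjective K₀.mkQ K₀.mkQ_surjective
  refine ⟨R₀, hR₀, MvPolynomial (Fin n) R₀, (Fin k → MvPolynomial (Fin n) R₀) ⧸ K₀,
    inferInstance, inferInstance, inferInstance, inferInstance, inferInstance, inferInstance,
    inferInstance, hfin, π.comp (algebraTensorAlgEquiv R₀ A).toAlgHom,
    e ≪≫ₗ (eN.restrictScalars A).symm, hπ.comp (AlgEquiv.surjective _), fun t x => ?_⟩
  simp only [LinearEquiv.trans_apply, he]
  exact map_smul eN.symm _ _

end Groth.Agent.EGA43.FlatDescent
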