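import Groth.Agent.EGA43.FlatDescent.Main
import Groth.Agent.EGA43.FlatDescent.Model

/-!
# The flat locus of a finitely presented module is open
-/

universe u

set_option autoImplicit false
set_option backward.isDefEq.respectTransparency false

open TensorProduct Function

namespace Groth.Agent.EGA43.FlatDescent

attribute [local instance] bcModule

/-- **Openness of the flat locus** (EGA IV 11.3.1, affine case). -/
theorem isOpen_setOf_flat {A S N : Type u} [CommRing A] [CommRing S] [Algebra A S]
    [Algebra.FinitePresentation A S] [AddCommGroup N] [Module S N] [Module A N]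
    [IsScalarTower A S N] [Module.FinitePresentation S N] :
    IsOpen {q : PrimeSpectrum S | Module.Flat A (LocalizedModule q.asIdeal.primeCompl N)} := by
  obtain ⟨R₀, _, P₀, M₀, _, _, _, _, _, _, _, _, ψ, e, hψ, he⟩ :=
    exists_model_of_finitePresentation (A := A) (S := S) (N := N)
  have hind := PrimeSpectrum.isClosedEmbedding_comap_of_surjective S ψ.toRingHom hψ
  have hopen := (isOpen_flatAt (R := R₀) (P := P₀) (M := M₀) (A := A)).preimage hind.continuous
  convert hopen using 1
  ext q
  exact (flat_localized_iff ψ.toRingHom hψ e he q.asIdeal).symm

end Groth.Agent.EGA43.FlatDescent
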