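import Groth.Agent.EGA43.FlatDescent.Stage

/-!
# Openness of the flat locus of a base change; descent of flatness
-/

universe u

set_option autoImplicit false
set_option backward.isDefEq.respectTransparency false

open TensorProduct Function

namespace Groth.Agent.EGA43.FlatDescent

attribute [local instance] bcModule

variable {R P M : Type u} [CommRing R] [CommRing P] [Algebra R P] [AddCommGroup M] [Module R M]
  [Module P M] [IsScalarTower R P M] {A : Type u} [CommRing A] [Algebra R A]
  [IsNoetherianRing R] [Algebra.FiniteType R P] [Module.Finite P M]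

omit [IsNoetherianRing R] in
/-- The flat locus over a Noetherian stage is open. -/
theorem isOpen_flatAt_of_isNoetherianRing {B : Type u} [CommRing B] [Algebra R B]
    [IsNoetherianRing B] : IsOpen {q : PrimeSpectrum (B ⊗[R] P) | FlatAt R P M B q.asIdeal} := by
  have : Algebra.FiniteType B (B ⊗[R] P) := Algebra.FiniteType.baseChange (A := P) B
  have : Module.Finite (B ⊗[R] P) (B ⊗[R] M) := finite_bc R P M B
  exact FlatOpen.isOpen_flatLocus B (B ⊗[R] P) (B ⊗[R] M)

theorem isNoetherianRing_of_fg {B : Subalgebra R A} (hB : B.FG) : IsNoetherianRing B :=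
  have : Algebra.FiniteType R B := B.fg_iff_finiteType.1 hB
  Algebra.FiniteType.isNoetherianRing R B

/-- The flat locus of `A ⊗ M` in `Spec (A ⊗ P)` is open. -/
theorem isOpen_flatAt : IsOpen {q : PrimeSpectrum (A ⊗[R] P) | FlatAt R P M A q.asIdeal} := by
  rw [isOpen_iff_forall_mem_open]
  intro q hq
  obtain ⟨B, hB, hBq⟩ := exists_stage_flatAt q.asIdeal hq
  have := isNoetherianRing_of_fg hB
  let σ := Algebra.TensorProduct.map B.val (AlgHom.id R P)
  exact ⟨PrimeSpectrum.comap σ.toRingHom ⁻¹'
      {q | FlatAt R P M B q.asIdeal}, fun q' h => FlatAt.of_hom B.val h,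
    isOpen_flatAt_of_isNoetherianRing.preimage (PrimeSpectrum.continuous_comap _), hBq⟩

variable (P) in
include P in
/-- **Descent of flatness** to a finitely generated subalgebra. -/
theorem exists_stage_flat [Module.Flat A (A ⊗[R] M)] :
    ∃ B : Subalgebra R A, B.FG ∧ Module.Flat B (B ⊗[R] M) := by
  classical
  have H : ∀ q : PrimeSpectrum (A ⊗[R] P), ∃ B : Subalgebra R A, B.FG ∧ ∃ c : B ⊗[R] P,
      Algebra.TensorProduct.map B.val (AlgHom.id R P) c ∉ q.asIdeal ∧
      ∀ (q' : Ideal (B ⊗[R] P)) [q'.IsPrime], c ∉ q' → FlatAt R P M B q' := fun q => by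
    obtain ⟨B, hB, hBq⟩ := exists_stage_flatAt q.asIdeal (flatAt_of_flat (M := M) q.asIdeal)
    have := isNoetherianRing_of_fg hB
    let σ := Algebra.TensorProduct.map B.val (AlgHom.id R P)
    obtain ⟨_, ⟨c, rfl⟩, hcq, hc⟩ :=
      PrimeSpectrum.isTopologicalBasis_basic_opens.exists_subset_of_mem_open
        (show PrimeSpectrum.comap σ.toRingHom q ∈ {q | FlatAt R P M B q.asIdeal} from hBq)
        isOpen_flatAt_of_isNoetherianRing
    exact ⟨B, hB, c, hcq, fun q' _ h => hc (a := ⟨q', ‹_›⟩) h⟩
  choose Bq hBq cq hcq hflat using H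
  let img (q) : A ⊗[R] P := Algebra.TensorProduct.map (Bq q).val (AlgHom.id R P) (cq q)
  have htop : (1 : A ⊗[R] P) ∈ Ideal.span (Set.range img) := by
    by_contra h
    obtain ⟨m, hm, hle⟩ := Ideal.exists_le_maximal (Ideal.span (Set.range img))
      fun ht => h (by rw [ht]; trivial)
    exact hcq ⟨m, hm.isPrime⟩ (hle (Ideal.subset_span ⟨⟨m, hm.isPrime⟩, rfl⟩))
  obtain ⟨T, hT, hT1⟩ := Submodule.mem_span_finite_of_mem_span htop
  obtain ⟨s, rfl⟩ : ∃ s : Finset _, s.image img = T := by
    obtain ⟨s, -, rfl⟩ := Finset.subset_set_image_iff.1 (by rwa [Set.image_univ] : ↑T ⊆ img '' Set.univ)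
    exact ⟨s, rfl⟩
  rw [Finset.coe_image, Submodule.mem_span_image_finset_iff_exists_fun] at hT1
  obtain ⟨r, hr⟩ := hT1
  choose Cr hCr r' hr' using fun q : s => TensorProduct.Algebra.exists_of_fg (r q)
  let C : Subalgebra R A := s.sup Bq ⊔ Finset.univ.sup Cr
  have hC : C.FG := Subalgebra.FG.sup
    (Finset.sup_induction Subalgebra.fg_bot (fun a ha b hb => Subalgebra.FG.sup ha hb)
      fun q _ => hBq q)
    (Finset.sup_induction Subalgebra.fg_bot (fun a ha b hb => Subalgebra.FG.sup ha hb)
      fun q _ => hCr q)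
  have hB_le : ∀ q : s, Bq q ≤ C := fun q => (Finset.le_sup q.2).trans le_sup_left
  have hCr_le : ∀ q : s, Cr q ≤ C := fun q => (Finset.le_sup (Finset.mem_univ q)).trans le_sup_right
  let e {B C : Subalgebra R A} (h : B ≤ C) :=
    Algebra.TensorProduct.map (Subalgebra.inclusion h) (AlgHom.id R P)
  let x : C ⊗[R] P := ∑ q : s, e (hCr_le q) (r' q) * e (hB_le q) (cq q)
  have hmap : ∀ (B : Subalgebra R A) (z : B ⊗[R] P),
      B.val.toLinearMap.rTensor P z = Algebra.TensorProduct.map B.val (AlgHom.id R P) z :=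
    fun B z => by
      induction z using TensorProduct.induction_on with
      | zero => simp
      | add u u' h h' => simp only [map_add, h, h']
      | tmul b r => rfl
  have hx : Algebra.TensorProduct.map C.val (AlgHom.id R P) x = 1 := by
    simp only [x, e, map_sum, map_mul, ← AlgHom.comp_apply, ← Algebra.TensorProduct.map_comp,
      AlgHom.id_comp]
    rw [← hr]
    refine Finset.sum_congr rfl fun q _ => ?_
    rw [← hr' q, hmap]
    rfl
  obtain ⟨D, hCD, hD, hD1⟩ := TensorProduct.Algebra.eq_of_fg_of_subtype_eq hC (t := x) (t' := 1)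
    (by rw [hmap, hmap, hx, map_one])
  refine ⟨D, hD, flat_of_forall_flatAt (P := P) fun q _ => ?_⟩
  have hDone : e hCD x = 1 := by
    have he : ∀ z, (Subalgebra.inclusion hCD).toLinearMap.rTensor P z = e hCD z := fun z => by
      induction z using TensorProduct.induction_on with
      | zero => simp
      | add u u' h h' => simp only [map_add, h, h']
      | tmul b r => rfl
    rw [← he, hD1, he, map_one]
  obtain ⟨j, hj⟩ : ∃ j : s, e ((hB_le j).trans hCD) (cq j) ∉ q := by
    by_contra! h
    refine ‹q.IsPrime›.ne_top ((Ideal.eq_top_iff_one q).2 ?_)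
    rw [← hDone]
    simp only [x, e, map_sum, map_mul, ← AlgHom.comp_apply, ← Algebra.TensorProduct.map_comp,
      AlgHom.id_comp]
    exact q.sum_mem fun j _ => q.mul_mem_left _ (h j)
  exact FlatAt.of_hom (Subalgebra.inclusion ((hB_le j).trans hCD)) (hflat j.1 _ hj)

end Groth.Agent.EGA43.FlatDescent
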