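import Groth.Agent.EGA43.FlatDescent.Model
import Groth.Agent.EGA43.GenFree
import Mathlib.RingTheory.MvPolynomial.Localization
import Mathlib.RingTheory.Localization.Integer
import Mathlib.RingTheory.Localization.FractionRing

/-!
# Generic freeness over arbitrary domains
-/

universe u

set_option autoImplicit false
set_option backward.isDefEq.respectTransparency false

open TensorProduct Function MvPolynomial

attribute [local instance] MvPolynomial.algebraMvPolynomial

namespace Groth.Agent.EGA43.FlatDescent

variable {R : Type u} [CommRing R] [IsDomain R]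

/-- Generic freeness for finitely presented modules over finitely presented algebras over a domain. -/
theorem gFree_of_finitePresentation {S N : Type u} [CommRing S] [Algebra R S]
    [Algebra.FinitePresentation R S] [AddCommGroup N] [Module S N] [Module R N]
    [IsScalarTower R S N] [Module.FinitePresentation S N] : GenFree.GFree R N := by
  obtain ⟨R₀, _, P₀, M₀, _, _, _, _, _, _, _, _, ψ, e, -, -⟩ :=
    exists_model_of_finitePresentation (A := R) (S := S) (N := N)
  obtain ⟨f, hf, hfree⟩ := GenFree.gFree (R := R₀) (S := P₀) M₀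
  let F : R := (f : R)
  let φ : Localization.Away f →+* Localization.Away F :=
    IsLocalization.Away.lift (S := Localization.Away f) f (g := (algebraMap R (Localization.Away F)).comp (algebraMap R₀ R))
      (IsLocalization.Away.algebraMap_isUnit F)
  algebraize [φ]
  have : IsScalarTower R₀ (Localization.Away f) (Localization.Away F) :=
    .of_algebraMap_eq fun r => by
      rw [IsScalarTower.algebraMap_apply R₀ R (Localization.Away F)]
      exact (IsLocalization.Away.lift_eq (S := Localization.Away f)
        (g := (algebraMap R (Localization.Away F)).comp (algebraMap R₀ R)) f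
        (IsLocalization.Away.algebraMap_isUnit F) r).symm
  refine ⟨F, fun h => hf (Subtype.ext h), ?_⟩
  exact .of_equiv ((AlgebraTensorModule.cancelBaseChange R₀ (Localization.Away f)
    (Localization.Away F) (Localization.Away F) M₀) ≪≫ₗ
      (AlgebraTensorModule.cancelBaseChange R₀ R (Localization.Away F) (Localization.Away F) M₀).symm ≪≫ₗ
      AlgebraTensorModule.congr (LinearEquiv.refl _ _) e)

/-- Over a domain, a submodule of a free module over a polynomial ring is finitely generated up to
torsion. -/
theorem exists_finset_smul_mem (n k : ℕ) (W : Submodule (MvPolynomial (Fin n) R)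
      (Fin k → MvPolynomial (Fin n) R)) :
    ∃ s : Finset (Fin k → MvPolynomial (Fin n) R), (∀ w ∈ s, w ∈ W) ∧
      ∀ w ∈ W, ∃ r : R, r ≠ 0 ∧ r • w ∈ Submodule.span (MvPolynomial (Fin n) R) (s : Set _) := by
  classical
  let K := FractionRing R
  let T := (nonZeroDivisors R).map (MvPolynomial.C (σ := Fin n))
  have hloc : IsLocalization T (MvPolynomial (Fin n) K) := MvPolynomial.isLocalization (nonZeroDivisors R) K
  let ι : (Fin k → MvPolynomial (Fin n) R) →ₗ[MvPolynomial (Fin n) R] (Fin k → MvPolynomial (Fin n) K) :=
    LinearMap.pi fun j => Algebra.linearMap _ _ ∘ₗ LinearMap.proj j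
  have hι : Injective ι := fun a b h => funext fun j =>
    MvPolynomial.map_injective (algebraMap R K) (IsFractionRing.injective R K) (congrFun h j)
  have hV : (Submodule.span (MvPolynomial (Fin n) K) (ι '' W)).FG := IsNoetherian.noetherian _
  obtain ⟨t, htW, ht⟩ := (Submodule.fg_span_iff_fg_span_finset_subset _).1 hV
  have : ∀ y ∈ t, ∃ w ∈ W, ι w = y := fun y hy => htW hy
  choose pre hpre hpre' using this
  let s : Finset _ := t.attach.image fun y => pre y.1 y.2
  refine ⟨s, fun w hw => ?_, fun w hw => ?_⟩
  · obtain ⟨y, -, rfl⟩ := Finset.mem_image.1 hw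
    exact hpre _ _
  · have hw' : ι w ∈ Submodule.span (MvPolynomial (Fin n) K) (t : Set _) :=
      ht ▸ Submodule.subset_span ⟨w, hw, rfl⟩
    obtain ⟨c, hc⟩ := Submodule.mem_span_finset'.1 hw'
    obtain ⟨d, hd⟩ := IsLocalization.exist_integer_multiples T (Finset.univ : Finset t) c
    choose c' hc' using fun y : t => hd y (Finset.mem_univ y)
    obtain ⟨r, hr, hrd⟩ := d.2
    refine ⟨r, nonZeroDivisors.ne_zero hr, ?_⟩
    have heq : (d : MvPolynomial (Fin n) R) • w = ∑ y : t, c' y • pre y.1 y.2 := by
      apply hι
      rw [map_sum, map_smul, ← hc, Finset.smul_sum]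
      refine Finset.sum_congr rfl fun y _ => ?_
      rw [map_smul, hpre', ← smul_assoc, ← hc' y, algebraMap_smul]
    rw [← algebraMap_smul (MvPolynomial (Fin n) R) r w, MvPolynomial.algebraMap_eq, hrd, heq]
    exact Submodule.sum_mem _ fun y _ => Submodule.smul_mem _ _
      (Submodule.subset_span (Finset.mem_image_of_mem _ (Finset.mem_attach _ y)))

/-- Over a domain, after inverting one nonzero element, the quotient of a free module over a
polynomial ring by an arbitrary submodule is free and the submodule is finitely generated. -/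
theorem exists_free_and_pow_smul_mem (n k : ℕ) (W : Submodule (MvPolynomial (Fin n) R)
      (Fin k → MvPolynomial (Fin n) R)) :
    ∃ (f : R) (s : Finset (Fin k → MvPolynomial (Fin n) R)), f ≠ 0 ∧ (∀ w ∈ s, w ∈ W) ∧
      Module.Free (Localization.Away f)
        (Localization.Away f ⊗[R] ((Fin k → MvPolynomial (Fin n) R) ⧸ W)) ∧
      ∀ w ∈ W, ∃ m : ℕ, f ^ m • w ∈ Submodule.span (MvPolynomial (Fin n) R) (s : Set _) := by
  classical
  obtain ⟨s, hsW, hs⟩ := exists_finset_smul_mem n k W
  let W' := Submodule.span (MvPolynomial (Fin n) R) (s : Set (Fin k → MvPolynomial (Fin n) R))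
  have hle : W' ≤ W := Submodule.span_le.2 hsW
  have : Module.FinitePresentation (MvPolynomial (Fin n) R)
      ((Fin k → MvPolynomial (Fin n) R) ⧸ W') :=
    Module.finitePresentation_of_surjective W'.mkQ W'.mkQ_surjective
      (by rw [Submodule.ker_mkQ]; exact ⟨s, rfl⟩)
  obtain ⟨f, hf, hfree⟩ := gFree_of_finitePresentation (R := R) (S := MvPolynomial (Fin n) R)
    (N := (Fin k → MvPolynomial (Fin n) R) ⧸ W')
  have : IsDomain (Localization.Away f) :=
    IsLocalization.isDomain_localization (powers_le_nonZeroDivisors_of_noZeroDivisors hf)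
  have hmem : ∀ w ∈ W, ∀ c : Localization.Away f,
      c ⊗ₜ[R] (Submodule.Quotient.mk w : (Fin k → MvPolynomial (Fin n) R) ⧸ W') = 0 := by
    intro w hw c
    obtain ⟨r, hr, hrw⟩ := hs w hw
    have h0 : algebraMap R (Localization.Away f) r •
        (c ⊗ₜ[R] (Submodule.Quotient.mk w : (Fin k → MvPolynomial (Fin n) R) ⧸ W')) = 0 := by
      rw [algebraMap_smul, ← tmul_smul, ← Submodule.Quotient.mk_smul,
        (Submodule.Quotient.mk_eq_zero W').2 hrw, tmul_zero]
    refine (smul_eq_zero.1 h0).resolve_left fun h => hr ?_
    exact IsLocalization.injective (Localization.Away f)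
      (powers_le_nonZeroDivisors_of_noZeroDivisors hf) (h.trans (map_zero _).symm)
  refine ⟨f, s, hf, hsW, ?_, fun w hw => ?_⟩
  · let q : ((Fin k → MvPolynomial (Fin n) R) ⧸ W') →ₗ[R] (Fin k → MvPolynomial (Fin n) R) ⧸ W :=
      (Submodule.factor hle).restrictScalars R
    have hq : Surjective q := Submodule.factor_surjective hle
    let Q := AlgebraTensorModule.lTensor (Localization.Away f) (Localization.Away f) q
    refine Module.Free.of_equiv (LinearEquiv.ofBijective Q
      ⟨(injective_iff_map_eq_zero Q).2 fun z hz => ?_, LinearMap.lTensor_surjective _ hq⟩)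
    obtain ⟨u, rfl⟩ := (lTensor_exact (Localization.Away f)
      (LinearMap.exact_subtype_ker_map q) hq z).1 hz
    clear hz
    induction u using TensorProduct.induction_on with
    | zero => simp
    | add a b ha hb => simp only [map_add, ha, hb, add_zero]
    | tmul c x =>
      obtain ⟨x, hx⟩ := x
      obtain ⟨w, rfl⟩ := Submodule.Quotient.mk_surjective W' x
      rw [LinearMap.lTensor_tmul]
      exact hmem w ((Submodule.Quotient.mk_eq_zero W).1 hx) c
  · let ι := TensorProduct.mk R (Localization.Away f) ((Fin k → MvPolynomial (Fin n) R) ⧸ W') 1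
    have h0 : ι (Submodule.Quotient.mk w) = ι 0 := by
      rw [map_zero]; exact hmem w hw 1
    obtain ⟨⟨_, m, rfl⟩, hm⟩ :=
      (IsLocalizedModule.eq_iff_exists (Submonoid.powers f) ι).1 h0
    refine ⟨m, (Submodule.Quotient.mk_eq_zero W').1 ?_⟩
    rw [Submodule.Quotient.mk_smul]
    simpa [Submonoid.smul_def] using hm

set_option maxHeartbeats 1000000 in
set_option synthInstance.maxHeartbeats 200000 in
/-- **Generic freeness** for a finite module over a finite type algebra over a domain. -/
theorem gFree_general {S M : Type u} [CommRing S] [Algebra R S] [Algebra.FiniteType R S]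
    [AddCommGroup M] [Module S M] [Module R M] [IsScalarTower R S M] [Module.Finite S M] :
    GenFree.GFree R M ∧
      ∃ (f : R), f ≠ 0 ∧ ∃ (n k : ℕ) (π : MvPolynomial (Fin n) R →ₐ[R] S)
        (σ : (Fin k → MvPolynomial (Fin n) R) →ₗ[R] M) (s : Finset (Fin k → MvPolynomial (Fin n) R)),
        Surjective π ∧ Surjective σ ∧ (∀ p x, σ (p • x) = π p • σ x) ∧ (∀ w ∈ s, σ w = 0) ∧
        Module.Free (Localization.Away f) (Localization.Away f ⊗[R] M) ∧
        ∀ w, σ w = 0 → ∃ m : ℕ, f ^ m • w ∈ Submodule.span (MvPolynomial (Fin n) R) (s : Set _) := by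
  obtain ⟨n, π, hπ⟩ := Algebra.FiniteType.iff_quotient_mvPolynomial''.1 ‹Algebra.FiniteType R S›
  have hself : Module.Finite (MvPolynomial (Fin n) R) (MvPolynomial (Fin n) R) := Module.Finite.self _
  let _ : Algebra (MvPolynomial (Fin n) R) S := π.toRingHom.toAlgebra
  let _ : Module (MvPolynomial (Fin n) R) M := Module.compHom M π.toRingHom
  have : IsScalarTower (MvPolynomial (Fin n) R) S M :=
    IsScalarTower.of_algebraMap_smul fun _ _ => rfl
  have : IsScalarTower R (MvPolynomial (Fin n) R) M :=
    IsScalarTower.of_algebraMap_smul fun r x => by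
      show π (algebraMap R _ r) • x = r • x
      rw [π.commutes, algebraMap_smul]
  have : Module.Finite (MvPolynomial (Fin n) R) S :=
    Module.Finite.of_surjective (Algebra.linearMap (MvPolynomial (Fin n) R) S) hπ
  have : Module.Finite (MvPolynomial (Fin n) R) M := Module.Finite.trans S M
  obtain ⟨k, σ, hσ⟩ := Module.Finite.exists_fin' (MvPolynomial (Fin n) R) M
  obtain ⟨f, s, hf, hsW, hfree, hpow⟩ := exists_free_and_pow_smul_mem n k (LinearMap.ker σ)
  have hfree' : Module.Free (Localization.Away f) (Localization.Away f ⊗[R] M) :=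
    .of_equiv (AlgebraTensorModule.congr (LinearEquiv.refl (Localization.Away f) _)
      ((σ.quotKerEquivOfSurjective hσ).restrictScalars R))
  exact ⟨⟨f, hf, hfree'⟩, f, hf, n, k, π, σ.restrictScalars R, s, hπ, hσ,
    fun p x => σ.map_smul p x, fun w hw => LinearMap.mem_ker.1 (hsW w hw), hfree', hpow⟩

end Groth.Agent.EGA43.FlatDescent
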