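import Groth.Agent.EGA43.FlatOpen

/-!
# Flatness of base changes of a module, pointwise
-/

universe u

set_option autoImplicit false
set_option backward.isDefEq.respectTransparency false

open TensorProduct Function

namespace Groth.Agent.EGA43.FlatDescent

variable (R P M : Type u) [CommRing R] [CommRing P] [Algebra R P] [AddCommGroup M] [Module R M]
  [Module P M] [IsScalarTower R P M] (A : Type u) [CommRing A] [Algebra R A]

/-- The action of `A ⊗ P` on `M ⊗ X`. -/
noncomputable def act (X : Type u) [AddCommGroup X] [Module R X] [Module A X]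
    [IsScalarTower R A X] : A ⊗[R] P →ₐ[R] Module.End R (M ⊗[R] X) :=
  (Module.endTensorEndAlgHom.comp (Algebra.TensorProduct.map (Algebra.lsmul R R M)
    (Algebra.lsmul R R X))).comp (Algebra.TensorProduct.comm R A P).toAlgHom

variable {R P M A} in
theorem act_tmul {X : Type u} [AddCommGroup X] [Module R X] [Module A X] [IsScalarTower R A X]
    (a : A) (p : P) (m : M) (x : X) :
    act R P M A X (a ⊗ₜ p) (m ⊗ₜ x) = (p • m) ⊗ₜ (a • x) := rfl

/-- The action of `A ⊗ P` on `A ⊗ M`. -/
@[instance_reducible]
noncomputable def bcModule : Module (A ⊗[R] P) (A ⊗[R] M) :=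
  Module.compHom (A ⊗[R] M) (Module.endTensorEndAlgHom.comp
    (Algebra.TensorProduct.map (Algebra.lsmul R R A : A →ₐ[R] Module.End R A)
      (Algebra.lsmul R R M : P →ₐ[R] Module.End R M))).toRingHom

attribute [local instance] bcModule

variable {R P M A} in
theorem bc_smul_tmul (a c : A) (p : P) (m : M) :
    (a ⊗ₜ[R] p) • (c ⊗ₜ[R] m) = (a * c) ⊗ₜ[R] (p • m) := rfl

instance : IsScalarTower A (A ⊗[R] P) (A ⊗[R] M) :=
  IsScalarTower.of_algebraMap_smul fun a x => by
    induction x using TensorProduct.induction_on with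
    | zero => simp
    | add x y hx hy => simp only [smul_add, hx, hy]
    | tmul c m =>
      show (a ⊗ₜ[R] (1 : P)) • (c ⊗ₜ[R] m) = _
      rw [bc_smul_tmul, one_smul, TensorProduct.smul_tmul', smul_eq_mul]

theorem finite_bc [Module.Finite P M] : Module.Finite (A ⊗[R] P) (A ⊗[R] M) := by
  classical
  obtain ⟨t, ht⟩ := (Module.Finite.fg_top : (⊤ : Submodule P M).FG)
  refine ⟨⟨t.image fun m => (1 : A) ⊗ₜ[R] m, Submodule.eq_top_iff'.2 fun x => ?_⟩⟩
  induction x using TensorProduct.induction_on with
  | zero => exact zero_mem _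
  | add u v hu hv => exact add_mem hu hv
  | tmul r m =>
    have hm : m ∈ Submodule.span P (t : Set M) := ht ▸ Submodule.mem_top
    induction hm using Submodule.span_induction generalizing r with
    | mem y hy =>
      have h : r ⊗ₜ[R] y = (r ⊗ₜ[R] (1 : P)) • ((1 : A) ⊗ₜ[R] y) := by
        rw [bc_smul_tmul, mul_one, one_smul]
      rw [h]
      exact Submodule.smul_mem _ _ (Submodule.subset_span (Finset.mem_image_of_mem _ hy))
    | zero => rw [tmul_zero]; exact zero_mem _
    | add y z _ _ hy hz => rw [tmul_add]; exact add_mem (hy r) (hz r)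
    | smul s y _ hy =>
      have h : r ⊗ₜ[R] (s • y) = ((1 : A) ⊗ₜ[R] s) • (r ⊗ₜ[R] y) := by
        rw [bc_smul_tmul, one_mul]
      rw [h]
      exact Submodule.smul_mem _ _ (hy r)

section

variable (X : Type u) [AddCommGroup X] [Module R X] [Module A X] [IsScalarTower R A X]

/-- `(A ⊗ M) ⊗_A X ≅ M ⊗ X`. -/
noncomputable def cancel : (A ⊗[R] M) ⊗[A] X ≃+ M ⊗[R] X :=
  ((TensorProduct.comm A (A ⊗[R] M) X).toAddEquiv.trans
    (AlgebraTensorModule.cancelBaseChange R A A X M).toAddEquiv).trans
    (TensorProduct.comm R X M).toAddEquiv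

variable {R M A X} in
theorem cancel_tmul (a : A) (m : M) (x : X) :
    cancel R M A X ((a ⊗ₜ[R] m) ⊗ₜ[A] x) = m ⊗ₜ[R] (a • x) := by
  simp [cancel]

variable {R P M A X} in
theorem cancel_smul (t : A ⊗[R] P) (z : (A ⊗[R] M) ⊗[A] X) :
    cancel R M A X (t • z) = act R P M A X t (cancel R M A X z) := by
  induction z using TensorProduct.induction_on with
  | zero => simp
  | add z z' hz hz' => simp only [smul_add, map_add, hz, hz']
  | tmul y x =>
    induction y using TensorProduct.induction_on with
    | zero => simp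
    | add y y' hy hy' => simp only [TensorProduct.add_tmul, smul_add, map_add, hy, hy']
    | tmul c m =>
      induction t using TensorProduct.induction_on with
      | zero => simp
      | add t t' ht ht' => simp only [add_smul, map_add, ht, ht', LinearMap.add_apply]
      | tmul a p =>
        rw [TensorProduct.smul_tmul', bc_smul_tmul, cancel_tmul, cancel_tmul, act_tmul, mul_smul]

variable {R M A X} in
theorem cancel_lTensor {Y : Type u} [AddCommGroup Y] [Module R Y] [Module A Y]
    [IsScalarTower R A Y] (i : X →ₗ[A] Y) (z : (A ⊗[R] M) ⊗[A] X) :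
    cancel R M A Y (i.lTensor (A ⊗[R] M) z) =
      (i.restrictScalars R).lTensor M (cancel R M A X z) := by
  induction z using TensorProduct.induction_on with
  | zero => simp
  | add z z' hz hz' => simp only [map_add, hz, hz']
  | tmul y x =>
    induction y using TensorProduct.induction_on with
    | zero => simp
    | add y y' hy hy' => simp only [TensorProduct.add_tmul, map_add, hy, hy']
    | tmul c m => simp [cancel_tmul]

end

/-- `A ⊗ M` is flat over `A` at the prime `q` of `A ⊗ P`. -/
def FlatAt (q : Ideal (A ⊗[R] P)) [q.IsPrime] : Prop :=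
  Module.Flat A (LocalizedModule q.primeCompl (A ⊗[R] M))

variable {R P M A}

theorem FlatAt.exists_act_eq_zero {q : Ideal (A ⊗[R] P)} [q.IsPrime] (h : FlatAt R P M A q)
    {X Y : Type u} [AddCommGroup X] [Module R X] [Module A X] [IsScalarTower R A X]
    [AddCommGroup Y] [Module R Y] [Module A Y] [IsScalarTower R A Y]
    (i : X →ₗ[A] Y) (hi : Injective i) (x : M ⊗[R] X)
    (hx : (i.restrictScalars R).lTensor M x = 0) : ∃ t ∉ q, act R P M A X t x = 0 := by
  have : Module.Flat A (LocalizedModule q.primeCompl (A ⊗[R] M)) := h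
  obtain ⟨z, rfl⟩ := (cancel R M A X).surjective x
  rw [← cancel_lTensor, (cancel R M A Y).map_eq_zero_iff] at hx
  obtain ⟨t, ht, htz⟩ := FlatOpen.exists_smul_eq_zero_of_flat i hi q.primeCompl z hx
  exact ⟨t, ht, by rw [← cancel_smul, htz, map_zero]⟩

theorem rTensor_localized_injective_of_act {q : Ideal (A ⊗[R] P)} [q.IsPrime]
    {X Y : Type u} [AddCommGroup X] [Module R X] [Module A X] [IsScalarTower R A X]
    [AddCommGroup Y] [Module R Y] [Module A Y] [IsScalarTower R A Y] (i : X →ₗ[A] Y)
    (h : ∀ x, (i.restrictScalars R).lTensor M x = 0 → ∃ t ∉ q, act R P M A X t x = 0) :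
    Injective (i.rTensor (LocalizedModule q.primeCompl (A ⊗[R] M))) := by
  refine FlatOpen.rTensor_injective_localized i _ fun z hz => ?_
  obtain ⟨t, ht, htz⟩ := h (cancel R M A X z) (by
    rw [← cancel_lTensor, show i.lTensor (A ⊗[R] M) z = 0 from hz, map_zero])
  exact ⟨t, ht, (cancel R M A X).injective (by rw [cancel_smul, htz, map_zero])⟩

theorem flatAt_of_act {q : Ideal (A ⊗[R] P)} [q.IsPrime]
    (h : ∀ ⦃X Y : Type u⦄ [AddCommGroup X] [Module R X] [Module A X] [IsScalarTower R A X]
      [AddCommGroup Y] [Module R Y] [Module A Y] [IsScalarTower R A Y] (i : X →ₗ[A] Y),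
      Injective i → ∀ x, (i.restrictScalars R).lTensor M x = 0 →
        ∃ t ∉ q, act R P M A X t x = 0) : FlatAt R P M A q := by
  refine (@Module.Flat.iff_rTensor_preserves_injective_linearMap A (LocalizedModule q.primeCompl (A ⊗[R] M)) _ _ _).2 ?_
  intro X Y _ _ _ _ i hi
  let _ : Module R X := Module.compHom X (algebraMap R A)
  let _ : Module R Y := Module.compHom Y (algebraMap R A)
  have : IsScalarTower R A X := IsScalarTower.of_algebraMap_smul fun _ _ => rfl
  have : IsScalarTower R A Y := IsScalarTower.of_algebraMap_smul fun _ _ => rfl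
  exact rTensor_localized_injective_of_act i (h i hi)

/-- Flatness at a point is stable under base change. -/
theorem FlatAt.of_hom {A' : Type u} [CommRing A'] [Algebra R A'] (φ : A' →ₐ[R] A)
    {q : Ideal (A ⊗[R] P)} [q.IsPrime]
    [(q.comap (Algebra.TensorProduct.map φ (AlgHom.id R P))).IsPrime]
    (h : FlatAt R P M A' (q.comap (Algebra.TensorProduct.map φ (AlgHom.id R P)))) :
    FlatAt R P M A q := by
  refine flatAt_of_act fun X Y _ _ _ _ _ _ _ _ i hi x hx => ?_
  let _ : Module A' X := Module.compHom X φ.toRingHom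
  let _ : Module A' Y := Module.compHom Y φ.toRingHom
  have : IsScalarTower R A' X := IsScalarTower.of_algebraMap_smul fun r v => by
    show φ (algebraMap R A' r) • v = r • v
    rw [φ.commutes, algebraMap_smul]
  have : IsScalarTower R A' Y := IsScalarTower.of_algebraMap_smul fun r v => by
    show φ (algebraMap R A' r) • v = r • v
    rw [φ.commutes, algebraMap_smul]
  let i' : X →ₗ[A'] Y :=
    { toFun := i
      map_add' := map_add i
      map_smul' := fun a v => map_smul i (φ a) v }
  obtain ⟨t, ht, htx⟩ := h.exists_act_eq_zero i' hi x hx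
  refine ⟨Algebra.TensorProduct.map φ (AlgHom.id R P) t, ht, ?_⟩
  have : (act R P M A X).comp (Algebra.TensorProduct.map φ (AlgHom.id R P)) = act R P M A' X := by
    refine Algebra.TensorProduct.ext' fun a p => ?_
    exact TensorProduct.ext' fun m v => rfl
  exact (LinearMap.congr_fun (AlgHom.congr_fun this t) x).trans htx

theorem flat_of_forall_flatAt
    (h : ∀ (q : Ideal (A ⊗[R] P)) [q.IsPrime], FlatAt R P M A q) :
    Module.Flat A (A ⊗[R] M) := by
  rw [Module.Flat.iff_lTensor_preserves_injective_linearMap]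
  intro X Y _ _ _ _ i hi
  rw [injective_iff_map_eq_zero]
  intro z hz
  by_contra hne
  have hne' : (LinearMap.toSpanSingleton (A ⊗[R] P) _ z).ker ≠ ⊤ := fun htop => hne <| by
    simpa using LinearMap.mem_ker.1 (htop ▸ Submodule.mem_top :
      (1 : A ⊗[R] P) ∈ (LinearMap.toSpanSingleton (A ⊗[R] P) _ z).ker)
  obtain ⟨q, hq, hle⟩ := Ideal.exists_le_maximal _ hne'
  have : Module.Flat A (LocalizedModule q.primeCompl (A ⊗[R] M)) := h q
  obtain ⟨t, ht, htz⟩ := FlatOpen.exists_smul_eq_zero_of_flat i hi q.primeCompl z hz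
  exact ht (hle (LinearMap.mem_ker.2 htz))

theorem flatAt_of_flat [Module.Flat A (A ⊗[R] M)] (q : Ideal (A ⊗[R] P)) [q.IsPrime] :
    FlatAt R P M A q := by
  refine flatAt_of_act fun X Y _ _ _ _ _ _ _ _ i hi x hx => ?_
  refine ⟨1, fun h => ‹q.IsPrime›.ne_top ((Ideal.eq_top_iff_one q).2 h), ?_⟩
  obtain ⟨z, rfl⟩ := (cancel R M A X).surjective x
  rw [← cancel_lTensor, (cancel R M A Y).map_eq_zero_iff] at hx
  rw [(injective_iff_map_eq_zero _).1 (Module.Flat.lTensor_preserves_injective_linearMap i hi) z hx,
    map_zero, map_zero]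

end Groth.Agent.EGA43.FlatDescent
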