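import Groth.Agent.EGA43.FlatDescent.Kernel
import Groth.Agent.EGA43.FlatDescent.BC
import Mathlib.RingTheory.TensorProduct.DirectLimitFG
import Mathlib.RingTheory.Adjoin.FG

/-!
# Flatness at a point descends to a finitely generated stage
-/

universe u

set_option autoImplicit false
set_option backward.isDefEq.respectTransparency false

open TensorProduct Function

namespace Groth.Agent.EGA43.FlatDescent

attribute [local instance] bcModule

variable {R P M : Type u} [CommRing R] [CommRing P] [Algebra R P] [AddCommGroup M] [Module R M]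
  [Module P M] [IsScalarTower R P M] {A : Type u} [CommRing A] [Algebra R A]

theorem act_act_comm {B X : Type u} [CommRing B] [Algebra R B] [AddCommGroup X] [Module R X]
    [Module B X] [IsScalarTower R B X] (t t' : B ⊗[R] P) (z : M ⊗[R] X) :
    act R P M B X t (act R P M B X t' z) = act R P M B X t' (act R P M B X t z) := by
  rw [← Module.End.mul_apply, ← map_mul, mul_comm, map_mul, Module.End.mul_apply]

section incI

variable {B C : Type u} [CommRing B] [Algebra R B] [CommRing C] [Algebra R C] (p : Ideal R)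

/-- `pB → pC`. -/
def incI (φ : B →ₐ[R] C) : bcIdeal p B →ₗ[R] bcIdeal p C where
  toFun x := ⟨φ x, by
    have h := Ideal.mem_map_of_mem φ.toRingHom x.2
    rwa [Ideal.map_map, AlgHom.toRingHom_eq_coe, AlgHom.comp_algebraMap] at h⟩
  map_add' x y := Subtype.ext (map_add φ (x : B) y)
  map_smul' r x := Subtype.ext (map_smul φ r (x : B))

theorem incI_act (φ : B →ₐ[R] C) (t : B ⊗[R] P) (z : M ⊗[R] bcIdeal p B) :
    (incI p φ).lTensor M (act R P M B _ t z) =
      act R P M C _ (Algebra.TensorProduct.map φ (AlgHom.id R P) t) ((incI p φ).lTensor M z) := by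
  induction t using TensorProduct.induction_on with
  | zero => simp
  | add t t' h h' => simp only [map_add, LinearMap.add_apply, h, h']
  | tmul b s =>
    rw [Algebra.TensorProduct.map_tmul]
    induction z using TensorProduct.induction_on with
    | zero => simp
    | add z z' h h' => simp only [map_add, h, h']
    | tmul m x =>
      simp only [act_tmul, LinearMap.lTensor_tmul, AlgHom.id_apply]
      exact congrArg ((s • m) ⊗ₜ[R] ·) (Subtype.ext (map_mul φ b (x : B)))

theorem incI_mulI (φ : B →ₐ[R] C) (u : B ⊗[R] p) :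
    incI p φ (mulI p B u) = mulI p C (φ.toLinearMap.rTensor p u) := by
  induction u using TensorProduct.induction_on with
  | zero => simp
  | add u u' h h' => simp only [map_add, h, h']
  | tmul b r =>
    rw [LinearMap.rTensor_tmul]
    apply Subtype.ext
    show φ (b * algebraMap R B r) = φ b * algebraMap R C r
    rw [map_mul, φ.commutes]

theorem incI_theta (φ : B →ₐ[R] C) (k : M ⊗[R] p) :
    (incI p φ).lTensor M (theta p B M (1 ⊗ₜ k)) = theta p C M (1 ⊗ₜ k) := by
  induction k using TensorProduct.induction_on with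
  | zero => simp
  | add u u' h h' => simp only [tmul_add, map_add, h, h']
  | tmul m r =>
    rw [theta_tmul, theta_tmul, LinearMap.lTensor_tmul, incI_mulI, LinearMap.rTensor_tmul,
      AlgHom.toLinearMap_apply, map_one]

theorem theta_smul (c : P) (k : M ⊗[R] p) :
    theta p B M (1 ⊗ₜ (c • k)) = act R P M B _ ((1 : B) ⊗ₜ c) (theta p B M (1 ⊗ₜ k)) := by
  induction k using TensorProduct.induction_on with
  | zero => simp
  | add u u' h h' => simp only [smul_add, tmul_add, map_add, h, h']
  | tmul m r =>
    rw [TensorProduct.smul_tmul', theta_tmul, theta_tmul, act_tmul, one_smul]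

theorem kills_span (t : B ⊗[R] P) {s : Set (M ⊗[R] p)}
    (hgen : ∀ k ∈ s, act R P M B _ t (theta p B M (1 ⊗ₜ k)) = 0) (k : M ⊗[R] p)
    (hk : k ∈ Submodule.span P s) : act R P M B _ t (theta p B M (1 ⊗ₜ k)) = 0 := by
  induction hk using Submodule.span_induction with
  | mem k hk => exact hgen k hk
  | zero => simp
  | add k k' _ _ h h' => simp only [tmul_add, map_add, h, h', add_zero]
  | smul c k _ h => rw [theta_smul, act_act_comm, h, map_zero]

end incI

theorem exists_vanish_stage (p : Ideal R) {B : Subalgebra R A} (hB : B.FG)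
    (y : M ⊗[R] bcIdeal p B) (hy : (incI p B.val).lTensor M y = 0) :
    ∃ (C : Subalgebra R A) (h : B ≤ C), C.FG ∧
      (incI p (Subalgebra.inclusion h)).lTensor M y = 0 := by
  classical
  obtain ⟨Q, hQ, w, hw⟩ := TensorProduct.exists_of_fg (TensorProduct.comm R M (bcIdeal p B) y)
  let Q' : Submodule R (bcIdeal p A) := Q.map (incI p B.val)
  let v : Q →ₗ[R] Q' := (incI p B.val).restrict fun x hx => Submodule.mem_map_of_mem hx
  have hv : Q'.subtype.rTensor M (v.rTensor M w) = 0 := by
    rw [← LinearMap.rTensor_comp_apply,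
      show Q'.subtype ∘ₗ v = incI p B.val ∘ₗ Q.subtype from LinearMap.ext fun _ => rfl,
      LinearMap.rTensor_comp_apply, hw]
    apply (TensorProduct.comm R _ M).injective
    rw [map_zero]
    refine Eq.trans ?_ hy
    clear hy hw
    induction y using TensorProduct.induction_on with
    | zero => simp
    | add a b ha hb => simp only [map_add, ha, hb]
    | tmul m x => simp
  obtain ⟨Q'', hle, hQ'', hw'⟩ := TensorProduct.eq_zero_of_fg_of_subtype_eq_zero (hQ.map _) hv
  obtain ⟨s, hs⟩ := _root_.id hQ''
  have hz : ∀ z : bcIdeal p A, ∃ C : Subalgebra R A, C.FG ∧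
      z ∈ LinearMap.range (incI p C.val) := fun z => by
    obtain ⟨u, rfl⟩ := mulI_surjective p A z
    obtain ⟨C, hC, u', rfl⟩ := TensorProduct.Algebra.exists_of_fg u
    exact ⟨C, hC, mulI p C u', incI_mulI p C.val u'⟩
  choose Cf hCf hCf' using hz
  let C : Subalgebra R A := B ⊔ s.sup Cf
  have hCs : (s.sup Cf).FG :=
    Finset.sup_induction Subalgebra.fg_bot (fun a ha b hb => Subalgebra.FG.sup ha hb)
      fun z _ => hCf z
  refine ⟨C, le_sup_left, Subalgebra.FG.sup hB hCs, ?_⟩
  let j := incI p (R := R) C.val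
  have hj : Injective j := fun a b h => Subtype.ext (Subtype.ext (congrArg Subtype.val h :))
  have hsub : Q'' ≤ LinearMap.range j := by
    rw [← hs, Submodule.span_le]
    intro z hz
    obtain ⟨c, hc⟩ := hCf' z
    have hle : Cf z ≤ C := (Finset.le_sup hz).trans le_sup_right
    exact ⟨incI p (Subalgebra.inclusion hle) c, Eq.trans rfl hc⟩
  let g : Q'' →ₗ[R] bcIdeal p C :=
    (LinearEquiv.ofInjective j hj).symm.toLinearMap ∘ₗ Submodule.inclusion hsub
  have hg : j ∘ₗ g = Q''.subtype := LinearMap.ext fun z =>
    congrArg Subtype.val ((LinearEquiv.ofInjective j hj).apply_symm_apply (Submodule.inclusion hsub z))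
  have hcomp : g ∘ₗ Submodule.inclusion hle ∘ₗ v =
      incI p (Subalgebra.inclusion (le_sup_left : B ≤ C)) ∘ₗ Q.subtype := by
    refine LinearMap.ext fun z => hj ?_
    rw [← LinearMap.comp_apply, ← LinearMap.comp_assoc, hg]
    rfl
  apply (TensorProduct.comm R M (bcIdeal p C)).injective
  rw [map_zero]
  have h0 := congrArg (g.rTensor M) hw'
  rw [map_zero, ← LinearMap.rTensor_comp_apply, ← LinearMap.rTensor_comp_apply, LinearMap.comp_assoc,
    hcomp, LinearMap.rTensor_comp_apply, hw] at h0
  refine Eq.trans ?_ h0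
  clear hy hw h0
  induction y using TensorProduct.induction_on with
  | zero => simp
  | add a b ha hb => simp only [map_add, ha, hb]
  | tmul m x => simp

variable [IsNoetherianRing R] [Algebra.FiniteType R P] [Module.Finite P M]

/-- Given elements killing the kernel generators, flatness holds at a Noetherian stage. -/
theorem flatAt_of_kills {B : Type u} [CommRing B] [Algebra R B] [IsNoetherianRing B]
    (q : Ideal (B ⊗[R] P)) [q.IsPrime] (p : Ideal R) [p.IsPrime]
    (hp : p = q.comap (algebraMap R (B ⊗[R] P))) (t : B ⊗[R] P) (ht : t ∉ q)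
    (hkill : ∀ k ∈ LinearMap.ker (mulN p M), act R P M B _ t (theta p B M (1 ⊗ₜ k)) = 0) :
    FlatAt R P M B q := by
  have hW : ∀ w ∈ LinearMap.range (theta p B M ∘ₗ
      LinearMap.lTensor B (LinearMap.ker (mulN p M)).subtype), act R P M B _ t w = 0 := by
    rintro _ ⟨u, rfl⟩
    induction u using TensorProduct.induction_on with
    | zero => simp
    | add u u' h h' => simp only [map_add, h, h', add_zero]
    | tmul b k =>
      have hb : theta p B M (b ⊗ₜ (k : M ⊗[R] p)) =
          act R P M B _ (b ⊗ₜ (1 : P)) (theta p B M (1 ⊗ₜ (k : M ⊗[R] p))) := by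
        generalize (k : M ⊗[R] p) = z
        induction z using TensorProduct.induction_on with
        | zero => simp
        | add u u' h h' => simp only [tmul_add, map_add, h, h']
        | tmul m r =>
          simp only [theta_tmul, act_tmul, one_smul]
          exact congrArg (m ⊗ₜ[R] ·) (Subtype.ext (by simp [coe_mulI_tmul]))
      show act R P M B _ t (theta p B M (b ⊗ₜ (k : M ⊗[R] p))) = 0
      rw [hb, act_act_comm, hkill _ k.2, map_zero]
  obtain ⟨f, hf0, hfree⟩ := FlatOpen.gFree_baseChange R P M (R ⧸ p)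
  obtain ⟨a, rfl⟩ := Ideal.Quotient.mk_surjective f
  have ha : a ∉ p := fun h => hf0 (Ideal.Quotient.eq_zero_iff_mem.2 h)
  have haq : ∀ n : ℕ, algebraMap R (B ⊗[R] P) (a ^ n) ∉ q := fun n h => by
    rw [map_pow] at h
    exact ha (hp ▸ Ideal.mem_comap.2 (‹q.IsPrime›.mem_of_pow_mem n h))
  have hsmul : ∀ (X : Type u) [AddCommGroup X] [Module R X] [Module B X] [IsScalarTower R B X]
      (r : R) (z : M ⊗[R] X), act R P M B X (algebraMap R _ r) z = r • z := fun X _ _ _ _ r z => by
    rw [AlgHom.commutes]; rfl
  have : IsNoetherianRing (B ⊗[R] P) :=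
    have : Algebra.FiniteType B (B ⊗[R] P) := Algebra.FiniteType.baseChange (A := P) B
    Algebra.FiniteType.isNoetherianRing B _
  have : IsNoetherianRing (Localization.AtPrime q) :=
    IsLocalization.isNoetherianRing q.primeCompl _ inferInstance
  have : Module.Finite (B ⊗[R] P) (B ⊗[R] M) := finite_bc R P M B
  have : Module.Finite (Localization.AtPrime q) (LocalizedModule q.primeCompl (B ⊗[R] M)) :=
    Module.Finite.of_isLocalizedModule q.primeCompl
      (LocalizedModule.mkLinearMap q.primeCompl (B ⊗[R] M))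
  refine @FlatCrit.flat_of_rTensor_injective B _ (LocalizedModule q.primeCompl (B ⊗[R] M)) _ _
    (Localization.AtPrime q) _ _ _ _ _ _ _ (bcIdeal p B) ?_ ?_ ?_
  · rw [IsLocalRing.jacobson_eq_maximalIdeal ⊥ bot_ne_top, Ideal.map_map,
      ← IsScalarTower.algebraMap_eq R B, IsScalarTower.algebraMap_eq R (B ⊗[R] P)
        (Localization.AtPrime q), ← Ideal.map_map, ← Localization.AtPrime.map_eq_maximalIdeal]
    exact Ideal.map_mono (Ideal.map_le_iff_le_comap.2 hp.le)
  · refine rTensor_localized_injective_of_act (bcIdeal p B).subtype fun x hx => ?_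
    obtain ⟨n, hn⟩ := exists_pow_smul_mem_range_theta (p := p) a ha
      (Module.Free.of_equiv (AlgebraTensorModule.cancelBaseChange R (R ⧸ p)
        (Localization.Away (Ideal.Quotient.mk p a))
        (Localization.Away (Ideal.Quotient.mk p a)) M)) x hx
    refine ⟨t * algebraMap R _ (a ^ n),
      fun h => (‹q.IsPrime›.mem_or_mem h).elim ht (haq n), ?_⟩
    rw [map_mul, Module.End.mul_apply, hsmul, hW _ hn]
  · intro X Y _ _ _ _ i hY hi
    let _ : Module R X := Module.compHom X (algebraMap R B)
    let _ : Module R Y := Module.compHom Y (algebraMap R B)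
    have : IsScalarTower R B X := IsScalarTower.of_algebraMap_smul fun _ _ => rfl
    have : IsScalarTower R B Y := IsScalarTower.of_algebraMap_smul fun _ _ => rfl
    refine rTensor_localized_injective_of_act i fun x hx => ?_
    obtain ⟨n, hn⟩ := FlatOpen.exists_pow_smul_eq_zero p a inferInstance (i.restrictScalars R)
      (fun r hr v => hY _ (Ideal.mem_map_of_mem _ hr) v) hi (TensorProduct.comm R M X x) (by
        rw [show (i.restrictScalars R).rTensor M (TensorProduct.comm R M X x) =
            TensorProduct.comm R M Y ((i.restrictScalars R).lTensor M x)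
          from congr($(LinearMap.rTensor_comp_comm (i.restrictScalars R)) x), hx, map_zero])
    refine ⟨_, haq n, ?_⟩
    rw [hsmul]
    apply (TensorProduct.comm R M X).injective
    rw [map_smul, hn, map_zero]

/-- **Flatness at a point descends** to a finitely generated subalgebra. -/
theorem exists_stage_flatAt (q : Ideal (A ⊗[R] P)) [q.IsPrime] (hq : FlatAt R P M A q) :
    ∃ B : Subalgebra R A, B.FG ∧
      FlatAt R P M B (q.comap (Algebra.TensorProduct.map B.val (AlgHom.id R P))) := by
  classical
  let p := q.comap (algebraMap R (A ⊗[R] P))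
  let K := LinearMap.ker
    ((AlgebraTensorModule.rid R P M).toLinearMap ∘ₗ
      AlgebraTensorModule.lTensor P M (p.subtype : p →ₗ[R] R))
  have hKmem : ∀ k, k ∈ K ↔ k ∈ LinearMap.ker (mulN p M) := fun k => Iff.rfl
  have : IsNoetherianRing P := Algebra.FiniteType.isNoetherianRing R P
  have : Module.Finite P (M ⊗[R] p) :=
    Module.Finite.equiv (AlgebraTensorModule.cancelBaseChange R P P M p)
  obtain ⟨s, hs⟩ := (IsNoetherian.noetherian K : K.FG)
  have H : ∀ k : s, ∃ (B : Subalgebra R A), B.FG ∧ ∃ t : B ⊗[R] P,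
      Algebra.TensorProduct.map B.val (AlgHom.id R P) t ∉ q ∧
      act R P M B _ t (theta p B M (1 ⊗ₜ (k : M ⊗[R] p))) = 0 := fun k => by
    have hk : mulN p M (k : M ⊗[R] p) = 0 := (hKmem _).1 (hs ▸ Submodule.subset_span k.2)
    obtain ⟨t, htq, htk⟩ := hq.exists_act_eq_zero (bcIdeal p A).subtype Subtype.val_injective
      (theta p A M (1 ⊗ₜ (k : M ⊗[R] p))) (by
        rw [← LinearMap.comp_apply, lTensor_subtype_theta, LinearMap.comp_apply,
          LinearMap.lTensor_tmul, hk, tmul_zero, map_zero])
    obtain ⟨B, hB, t', rfl⟩ := TensorProduct.Algebra.exists_of_fg t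
    have hmap : ∀ z, B.val.toLinearMap.rTensor P z =
        Algebra.TensorProduct.map B.val (AlgHom.id R P) z := fun z => by
      induction z using TensorProduct.induction_on with
      | zero => simp
      | add u u' h h' => simp only [map_add, h, h']
      | tmul b r => rfl
    rw [hmap] at htq htk
    rw [← incI_theta p B.val, ← incI_act] at htk
    obtain ⟨C, hBC, hC, hz⟩ := exists_vanish_stage p hB _ htk
    refine ⟨C, hC, Algebra.TensorProduct.map (Subalgebra.inclusion hBC) (AlgHom.id R P) t', ?_, ?_⟩
    · rwa [← AlgHom.comp_apply, ← Algebra.TensorProduct.map_comp, AlgHom.id_comp]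
    · rw [← incI_theta p (Subalgebra.inclusion hBC), ← incI_act, hz]
  choose Bk hBk tk htk hkk using H
  let B : Subalgebra R A := Finset.univ.sup Bk
  have hB : B.FG :=
    Finset.sup_induction Subalgebra.fg_bot (fun a ha b hb => Subalgebra.FG.sup ha hb) fun k _ => hBk k
  have hle : ∀ k, Bk k ≤ B := fun k => Finset.le_sup (Finset.mem_univ k)
  let σ (k) := Algebra.TensorProduct.map (Subalgebra.inclusion (hle k)) (AlgHom.id R P)
  let t : B ⊗[R] P := ∏ k, σ k (tk k)
  refine ⟨B, hB, ?_⟩
  have : Algebra.FiniteType R B := B.fg_iff_finiteType.1 hB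
  have : IsNoetherianRing B := Algebra.FiniteType.isNoetherianRing R B
  refine flatAt_of_kills _ p ?_ t ?_ fun k hk => ?_
  · ext r
    simp only [p, Ideal.mem_comap]
    rw [AlgHom.commutes]
  · intro h
    rw [Ideal.mem_comap, map_prod] at h
    obtain ⟨k, -, hk⟩ := Ideal.IsPrime.prod_mem_iff.1 h
    refine htk k ?_
    rwa [← AlgHom.comp_apply, ← Algebra.TensorProduct.map_comp, AlgHom.id_comp] at hk
  · have hk' : k ∈ Submodule.span P (s : Set (M ⊗[R] p)) := by rw [hs]; exact (hKmem k).2 hk
    refine kills_span p t (fun k hk => ?_) k hk'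
    have hsk : act R P M B _ (σ ⟨k, hk⟩ (tk ⟨k, hk⟩)) (theta p B M (1 ⊗ₜ k)) = 0 := by
      rw [← incI_theta p (Subalgebra.inclusion (hle ⟨k, hk⟩)), ← incI_act, hkk, map_zero]
    show act R P M B _ (∏ k, σ k (tk k)) _ = 0
    rw [← Finset.prod_erase_mul _ _ (Finset.mem_univ (⟨k, hk⟩ : s)), map_mul,
      Module.End.mul_apply, hsk, map_zero]

end Groth.Agent.EGA43.FlatDescent
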