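import Mathlib.RingTheory.Flat.Basic
import Mathlib.LinearAlgebra.DFinsupp
import Mathlib.RingTheory.Flat.Localization
import Mathlib.RingTheory.Flat.Stability
import Mathlib.LinearAlgebra.TensorProduct.RightExactness
import Mathlib.RingTheory.Localization.BaseChange
import Mathlib.RingTheory.Localization.Away.Basic

/-!
# The kernel of `N ⊗ pB → N ⊗ B` comes from the kernel of `N ⊗ p → N`
-/

universe u

set_option autoImplicit false
set_option backward.isDefEq.respectTransparency false

open TensorProduct Function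

namespace Groth.Agent.EGA43.FlatDescent

variable {R : Type u} [CommRing R] (p : Ideal R) (B : Type u) [CommRing B] [Algebra R B]

/-- `p·B`. -/
abbrev bcIdeal : Ideal B := p.map (algebraMap R B)

/-- The inclusion of `p·B`, as an `R`-linear map. -/
abbrev bcIncl : bcIdeal p B →ₗ[R] B := (Submodule.subtype (bcIdeal p B)).restrictScalars R

/-- `B ⊗ p → pB`. -/
noncomputable def mulI : B ⊗[R] p →ₗ[R] bcIdeal p B :=
  TensorProduct.lift (LinearMap.mk₂ R
    (fun b r => ⟨b * algebraMap R B r, Ideal.mul_mem_left _ b (Ideal.mem_map_of_mem _ r.2)⟩)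
    (fun b b' r => Subtype.ext (add_mul b b' _))
    (fun c b r => Subtype.ext (smul_mul_assoc c b _))
    (fun b r r' => Subtype.ext (by simp [mul_add]))
    (fun c b r => Subtype.ext (show b * algebraMap R B (c * r) = c • (b * algebraMap R B r) by
      rw [map_mul, Algebra.smul_def, mul_left_comm])))

theorem coe_mulI_tmul (b : B) (r : p) : (mulI p B (b ⊗ₜ r) : B) = b * algebraMap R B r := rfl

theorem mulI_surjective : Surjective (mulI p B) := by
  rintro ⟨x, hx⟩
  induction hx using Submodule.span_induction with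
  | mem x hx =>
    obtain ⟨r, hr, rfl⟩ := hx
    exact ⟨1 ⊗ₜ ⟨r, hr⟩, Subtype.ext (by simp [coe_mulI_tmul])⟩
  | zero => exact ⟨0, by rw [map_zero]; rfl⟩
  | add x y _ _ hx hy =>
    obtain ⟨u, hu⟩ := hx
    obtain ⟨v, hv⟩ := hy
    exact ⟨u + v, by rw [map_add, hu, hv]; rfl⟩
  | smul b x hx' hx =>
    obtain ⟨u, hu⟩ := hx
    refine ⟨LinearMap.rTensor p (LinearMap.mulLeft R b) u, Subtype.ext ?_⟩
    show _ = b * x
    rw [show x = (mulI p B u : B) by rw [hu]]
    clear hu
    induction u using TensorProduct.induction_on with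
    | zero => simp
    | add u v hu hv => simp [hu, hv, mul_add]
    | tmul c r => simp [coe_mulI_tmul, mul_assoc]

variable (N : Type u) [AddCommGroup N] [Module R N]

/-- `N ⊗ p → N`. -/
noncomputable def mulN : N ⊗[R] p →ₗ[R] N :=
  (TensorProduct.rid R N).toLinearMap ∘ₗ LinearMap.lTensor N (Submodule.subtype p)

theorem mulN_tmul (n : N) (r : p) : mulN p N (n ⊗ₜ r) = (r : R) • n := by simp [mulN]

/-- `B ⊗ (N ⊗ p) → N ⊗ pB`. -/
noncomputable def theta : B ⊗[R] (N ⊗[R] p) →ₗ[R] N ⊗[R] bcIdeal p B :=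
  LinearMap.lTensor N (mulI p B) ∘ₗ (TensorProduct.leftComm R B N p).toLinearMap

theorem theta_tmul (b : B) (n : N) (r : p) :
    theta p B N (b ⊗ₜ (n ⊗ₜ r)) = n ⊗ₜ mulI p B (b ⊗ₜ r) := by simp [theta]

theorem theta_surjective : Surjective (theta p B N) :=
  (LinearMap.lTensor_surjective N (mulI_surjective p B)).comp
    (TensorProduct.leftComm R B N p).surjective

theorem lTensor_subtype_theta :
    LinearMap.lTensor N (bcIncl p B) ∘ₗ theta p B N =
      (TensorProduct.comm R B N).toLinearMap ∘ₗ LinearMap.lTensor B (mulN p N) := by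
  refine TensorProduct.ext (LinearMap.ext fun b => TensorProduct.ext' fun n r => ?_)
  show LinearMap.lTensor N _ (theta p B N (b ⊗ₜ (n ⊗ₜ r))) =
    TensorProduct.comm R B N (LinearMap.lTensor B (mulN p N) (b ⊗ₜ (n ⊗ₜ r)))
  simp only [theta_tmul, LinearMap.lTensor_tmul, mulN_tmul, TensorProduct.comm_tmul]
  rw [TensorProduct.smul_tmul, Algebra.smul_def, mul_comm]
  rfl

variable {p B N}

/-- If `N/pN` is free over `R/p` via the flat module `F`, then the kernel of `N ⊗ pB → N ⊗ B` is
generated by the kernel of `N ⊗ p → N`. -/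
theorem mem_range_theta_of_ker {F : Type u} [AddCommGroup F] [Module R F] [Module.Flat R F]
    (u : F →ₗ[R] N) (hsurj : LinearMap.range u ⊔ p • (⊤ : Submodule R N) = ⊤)
    (hinj : ∀ y, u y ∈ p • (⊤ : Submodule R N) → y ∈ p • (⊤ : Submodule R F))
    (x : N ⊗[R] bcIdeal p B) (hx : LinearMap.lTensor N (bcIncl p B) x = 0) :
    x ∈ LinearMap.range (theta p B N ∘ₗ
      LinearMap.lTensor B (LinearMap.ker (mulN p N)).subtype) := by
  have hrange : ∀ (G : Type u) [AddCommGroup G] [Module R G],
      p • (⊤ : Submodule R G) ≤ LinearMap.range (mulN p G) := fun G _ _ => by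
    refine Submodule.smul_le.2 fun r hr n _ => ⟨n ⊗ₜ ⟨r, hr⟩, mulN_tmul _ _ _ _⟩
  have hnat : u ∘ₗ mulN p F = mulN p N ∘ₗ LinearMap.rTensor p u :=
    TensorProduct.ext' fun y r => by simp [mulN_tmul]
  let Φ : (N ⊗[R] p) × F →ₗ[R] N := (mulN p N).coprod u
  let Ψ : LinearMap.ker (mulN p N) × (F ⊗[R] p) →ₗ[R] (N ⊗[R] p) × F :=
    ((LinearMap.ker (mulN p N)).subtype.coprod (-LinearMap.rTensor p u)).prod
      (mulN p F ∘ₗ LinearMap.snd R _ _)
  have hex : Exact Ψ Φ := by
    rintro ⟨t, y⟩
    refine ⟨fun h => ?_, ?_⟩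
    · have h' : mulN p N t + u y = 0 := h
      have hy : u y ∈ p • (⊤ : Submodule R N) := by
        rw [eq_neg_of_add_eq_zero_right h']
        refine neg_mem ?_
        clear h h'
        induction t using TensorProduct.induction_on with
        | zero => simp
        | add a b ha hb => rw [map_add]; exact add_mem ha hb
        | tmul n r => rw [mulN_tmul]; exact Submodule.smul_mem_smul r.2 trivial
      obtain ⟨s, rfl⟩ := hrange F (hinj y hy)
      rw [← LinearMap.comp_apply, hnat, LinearMap.comp_apply, ← map_add] at h'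
      refine ⟨⟨⟨t + LinearMap.rTensor p u s, h'⟩, s⟩, ?_⟩
      simp [Ψ]
    · rintro ⟨⟨⟨k, hk⟩, s⟩, hs⟩
      rw [← hs]
      have h := LinearMap.congr_fun hnat s
      simp only [LinearMap.comp_apply] at h
      simp [Φ, Ψ, h, LinearMap.mem_ker.1 hk]
  have hΦ : Surjective Φ := fun n => by
    have hn : n ∈ LinearMap.range u ⊔ p • (⊤ : Submodule R N) := by rw [hsurj]; trivial
    obtain ⟨_, ⟨y, rfl⟩, z, hz, rfl⟩ := Submodule.mem_sup.1 hn
    obtain ⟨t, rfl⟩ := hrange N hz
    exact ⟨(t, y), by simp [Φ, add_comm]⟩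
  obtain ⟨x', rfl⟩ := theta_surjective p B N x
  have hx' : LinearMap.lTensor B (mulN p N) x' = 0 := by
    apply (TensorProduct.comm R B N).injective
    rw [map_zero]
    exact (LinearMap.congr_fun (lTensor_subtype_theta p B N) x').symm.trans hx
  have h0 : LinearMap.lTensor B Φ
      (LinearMap.lTensor B (LinearMap.inl R (N ⊗[R] p) F) x') = 0 := by
    rw [← LinearMap.lTensor_comp_apply, LinearMap.coprod_inl, hx']
  obtain ⟨w, hw⟩ := (lTensor_exact B hex hΦ _).1 h0
  let s := LinearMap.lTensor B (LinearMap.snd R (LinearMap.ker (mulN p N)) (F ⊗[R] p)) w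
  let k := LinearMap.lTensor B (LinearMap.fst R (LinearMap.ker (mulN p N)) (F ⊗[R] p)) w
  have h₁ : x' = LinearMap.lTensor B (LinearMap.ker (mulN p N)).subtype k -
      LinearMap.lTensor B (LinearMap.rTensor p u) s := by
    have h := congrArg (LinearMap.lTensor B (LinearMap.fst R (N ⊗[R] p) F)) hw
    simp only [← LinearMap.lTensor_comp_apply, LinearMap.fst_comp_inl, Ψ,
      LinearMap.fst_prod, LinearMap.lTensor_id, LinearMap.id_apply] at h
    rw [← h]
    simp only [k, s, ← LinearMap.lTensor_comp_apply, ← LinearMap.sub_apply,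
      ← LinearMap.lTensor_sub]
    congr 2
  have h₂ : LinearMap.lTensor B (mulN p F) s = 0 := by
    have h := congrArg (LinearMap.lTensor B (LinearMap.snd R (N ⊗[R] p) F)) hw
    simp only [← LinearMap.lTensor_comp_apply, LinearMap.snd_comp_inl, Ψ,
      LinearMap.snd_prod, LinearMap.lTensor_zero, LinearMap.zero_apply] at h
    rw [← h]
    simp only [s, ← LinearMap.lTensor_comp_apply]
  have h₃ : theta p B F s = 0 := by
    apply Module.Flat.lTensor_preserves_injective_linearMap (M := F)
      (bcIncl p B) Subtype.val_injective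
    rw [map_zero, ← LinearMap.comp_apply, lTensor_subtype_theta, LinearMap.comp_apply, h₂,
      map_zero]
  have hth : theta p B N ∘ₗ LinearMap.lTensor B (LinearMap.rTensor p u) =
      LinearMap.rTensor _ u ∘ₗ theta p B F := by
    refine TensorProduct.ext (LinearMap.ext fun b => TensorProduct.ext' fun n r => ?_)
    show theta p B N (b ⊗ₜ (u n ⊗ₜ r)) = LinearMap.rTensor _ u (theta p B F (b ⊗ₜ (n ⊗ₜ r)))
    simp [theta_tmul]
  have h₄ : theta p B N (LinearMap.lTensor B (LinearMap.rTensor p u) s) = 0 := by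
    rw [← LinearMap.comp_apply, hth, LinearMap.comp_apply, h₃, map_zero]
  exact ⟨k, by rw [LinearMap.comp_apply, h₁, map_sub, h₄, sub_zero]⟩

/-- Up to powers of `a`, the kernel of `M ⊗ pB → M ⊗ B` is generated by that of `M ⊗ p → M`,
when `M/pM` becomes free over `R/p` after inverting `a ∉ p`. -/
theorem exists_pow_smul_mem_range_theta [p.IsPrime] {M : Type u} [AddCommGroup M] [Module R M]
    (a : R) (ha : a ∉ p)
    (hfree : Module.Free (Localization.Away (Ideal.Quotient.mk p a))
      (Localization.Away (Ideal.Quotient.mk p a) ⊗[R] M))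
    (x : M ⊗[R] bcIdeal p B) (hx : LinearMap.lTensor M (bcIncl p B) x = 0) :
    ∃ n : ℕ, a ^ n • x ∈ LinearMap.range (theta p B M ∘ₗ
      LinearMap.lTensor B (LinearMap.ker (mulN p M)).subtype) := by
  classical
  let L := Localization.Away (Ideal.Quotient.mk p a)
  let φ : Localization.Away a →ₐ[R] L :=
    { IsLocalization.Away.lift a (g := algebraMap R L) (by
        rw [IsScalarTower.algebraMap_apply R (R ⧸ p) L, Ideal.Quotient.algebraMap_eq]
        exact IsLocalization.Away.algebraMap_isUnit _) with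
      commutes' := fun r => IsLocalization.Away.lift_eq a _ r }
  have hcomm : ∀ r, φ (algebraMap R _ r) = algebraMap R L r := φ.commutes
  have hφ : Surjective φ := fun z => by
    obtain ⟨n, r, h⟩ := IsLocalization.Away.surj (Ideal.Quotient.mk p a) z
    obtain ⟨r, rfl⟩ := Ideal.Quotient.mk_surjective r
    obtain ⟨v, hv⟩ := (IsLocalization.Away.algebraMap_isUnit a (S := Localization.Away a)).pow n
    refine ⟨algebraMap R _ r * (↑v⁻¹ : Localization.Away a), ?_⟩
    have hu : IsUnit (algebraMap (R ⧸ p) L (Ideal.Quotient.mk p a) ^ n) :=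
      (IsLocalization.Away.algebraMap_isUnit _).pow n
    apply hu.mul_left_injective
    show φ _ * _ = z * _
    rw [h]
    have he : algebraMap (R ⧸ p) L (Ideal.Quotient.mk p a) ^ n = φ ↑v := by
      rw [hv, map_pow, hcomm]; rfl
    rw [he, ← map_mul, mul_assoc, Units.inv_mul, mul_one, hcomm]
    rfl
  have hker : ∀ z, φ z = 0 → z ∈ p • (⊤ : Submodule R (Localization.Away a)) := fun z hz => by
    obtain ⟨n, r, h⟩ := IsLocalization.Away.surj a z
    have h0 : algebraMap (R ⧸ p) L (Ideal.Quotient.mk p r) = 0 := by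
      show algebraMap R L r = 0
      rw [← hcomm, ← h, map_mul, hz, zero_mul]
    obtain ⟨⟨_, k, rfl⟩, hk⟩ := (IsLocalization.map_eq_zero_iff
      (Submonoid.powers (Ideal.Quotient.mk p a)) L _).1 h0
    have hr : r ∈ p := by
      have hk' : a ^ k * r ∈ p := by
        rw [← Ideal.Quotient.eq_zero_iff_mem, map_mul, map_pow]; exact hk
      exact (‹p.IsPrime›.mem_or_mem hk').resolve_left
        (fun h => ha (‹p.IsPrime›.mem_of_pow_mem k h))
    obtain ⟨v, hv⟩ := (IsLocalization.Away.algebraMap_isUnit a (S := Localization.Away a)).pow n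
    have : z = r • (↑v⁻¹ : Localization.Away a) := by
      rw [Algebra.smul_def, ← h, ← hv, Units.mul_inv_cancel_right]
    rw [this]
    exact Submodule.smul_mem_smul hr trivial
  let N := Localization.Away a ⊗[R] M
  let π : N →ₗ[R] L ⊗[R] M := LinearMap.rTensor M φ.toLinearMap
  have hπ : Surjective π := LinearMap.rTensor_surjective M hφ
  let b := Module.Free.chooseBasis L (L ⊗[R] M)
  choose e he using fun j => hπ (b j)
  let F := Module.Free.ChooseBasisIndex L (L ⊗[R] M) →₀ Localization.Away a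
  have : Module.Flat R (Localization.Away a) := IsLocalization.flat (Localization.Away a) (Submonoid.powers a)
  have : Module.Flat R F := Module.Flat.of_linearEquiv (finsuppLequivDFinsupp R)
  let u : F →ₗ[R] N := (Finsupp.linearCombination (Localization.Away a) e).restrictScalars R
  have hπs : ∀ (c : Localization.Away a) (n : N), π (c • n) = φ c • π n := fun c n => by
    induction n using TensorProduct.induction_on with
    | zero => simp
    | add n n' h h' => simp [h, h', smul_add]
    | tmul c' m =>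
      show LinearMap.rTensor M φ.toLinearMap ((c • c') ⊗ₜ[R] m) = φ c • (φ c' ⊗ₜ[R] m)
      rw [LinearMap.rTensor_tmul, TensorProduct.smul_tmul', smul_eq_mul, smul_eq_mul]
      exact congrArg (· ⊗ₜ[R] m) (map_mul φ c c')
  have hπu : ∀ y : F, b.repr (π (u y)) = y.mapRange φ (map_zero φ) := fun y => by
    induction y using Finsupp.induction_linear with
    | zero => simp
    | add y y' h h' => rw [Finsupp.mapRange_add (map_add φ), ← h, ← h', map_add, map_add, map_add]
    | single j c =>
      rw [Finsupp.mapRange_single]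
      show b.repr (π (Finsupp.linearCombination _ e (Finsupp.single j c))) = _
      rw [Finsupp.linearCombination_single, hπs, he, map_smul, b.repr_self, Finsupp.smul_single,
        smul_eq_mul, mul_one]
  have hπker : ∀ n, π n = 0 → n ∈ p • (⊤ : Submodule R N) := fun n hn => by
    obtain ⟨w, rfl⟩ := (rTensor_exact M (LinearMap.exact_subtype_ker_map φ.toLinearMap) hφ n).1 hn
    clear hn
    induction w using TensorProduct.induction_on with
    | zero => simp
    | add n n' h h' => rw [map_add]; exact add_mem h h'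
    | tmul z m =>
      obtain ⟨z, hz⟩ := z
      rw [LinearMap.rTensor_tmul, Submodule.subtype_apply]
      refine Submodule.smul_induction_on (p := fun z => z ⊗ₜ[R] m ∈ p • (⊤ : Submodule R N))
        (hker z hz) (fun r hr w _ => ?_) (fun w w' hw hw' => ?_)
      · rw [← TensorProduct.smul_tmul']
        exact Submodule.smul_mem_smul hr trivial
      · rw [TensorProduct.add_tmul]
        exact add_mem hw hw'
  have hπp : ∀ n ∈ p • (⊤ : Submodule R N), π n = 0 := fun n hn => by
    refine Submodule.smul_induction_on (p := fun n => π n = 0) hn (fun r hr w _ => ?_)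
      (fun w w' hw hw' => by rw [map_add, hw, hw', add_zero])
    rw [map_smul, ← IsScalarTower.algebraMap_smul L r]
    rw [IsScalarTower.algebraMap_apply R (R ⧸ p) L, Ideal.Quotient.algebraMap_eq,
      Ideal.Quotient.eq_zero_iff_mem.2 hr, map_zero, zero_smul]
  have hsurj : LinearMap.range u ⊔ p • (⊤ : Submodule R N) = ⊤ := by
    rw [Submodule.eq_top_iff']
    intro n
    obtain ⟨y, hy⟩ := Finsupp.mapRange_surjective φ (map_zero φ) hφ (b.repr (π n))
    rw [← add_sub_cancel (u y) n]
    refine Submodule.add_mem_sup ⟨y, rfl⟩ (hπker _ ?_)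
    apply b.repr.injective
    rw [map_sub, map_sub, hπu, hy, sub_self, map_zero]
  have hinj : ∀ y, u y ∈ p • (⊤ : Submodule R N) → y ∈ p • (⊤ : Submodule R F) := fun y hy => by
    have h0 : y.mapRange φ (map_zero φ) = 0 := by rw [← hπu, hπp _ hy, map_zero]
    rw [← Finsupp.sum_single y]
    refine Submodule.sum_mem _ fun j _ => ?_
    have := Submodule.mem_map_of_mem (f := Finsupp.lsingle (R := R) j)
      (hker (y j) (by simpa using DFunLike.congr_fun h0 j))
    rw [Submodule.map_smul''] at this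
    exact Submodule.smul_mono le_rfl le_top this
  let ι : M →ₗ[R] N := TensorProduct.mk R _ M 1
  have : IsLocalizedModule (Submonoid.powers a) ι :=
    (isLocalizedModule_iff_isBaseChange (Submonoid.powers a) (Localization.Away a) ι).2
      (TensorProduct.isBaseChange R M _)
  let ιI : M ⊗[R] bcIdeal p B →ₗ[R] N ⊗[R] bcIdeal p B :=
    AlgebraTensorModule.rTensor R (bcIdeal p B) ι
  have hιI : IsLocalizedModule (Submonoid.powers a) ιI :=
    inferInstanceAs (IsLocalizedModule _ (AlgebraTensorModule.rTensor R (bcIdeal p B) ι))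
  let ιp : M ⊗[R] p →ₗ[R] N ⊗[R] p := AlgebraTensorModule.rTensor R p ι
  have hιp : IsLocalizedModule (Submonoid.powers a) ιp :=
    inferInstanceAs (IsLocalizedModule _ (AlgebraTensorModule.rTensor R p ι))
  have hμ : mulN p N ∘ₗ ιp = ι ∘ₗ mulN p M :=
    TensorProduct.ext' fun m r => by simp [mulN_tmul, ιp]
  have hθ : theta p B N ∘ₗ LinearMap.lTensor B ιp = ιI ∘ₗ theta p B M := by
    refine TensorProduct.ext (LinearMap.ext fun c => TensorProduct.ext' fun n r => ?_)
    show theta p B N (c ⊗ₜ (ι n ⊗ₜ r)) = ιI (theta p B M (c ⊗ₜ (n ⊗ₜ r)))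
    simp [theta_tmul, ιI]
  have hxN : LinearMap.lTensor N (bcIncl p B) (ιI x) = 0 := by
    have : LinearMap.lTensor N (bcIncl p B) ∘ₗ ιI =
        LinearMap.rTensor B ι ∘ₗ LinearMap.lTensor M (bcIncl p B) :=
      TensorProduct.ext' fun m r => by simp [ιI]
    rw [← LinearMap.comp_apply, this, LinearMap.comp_apply, hx, map_zero]
  obtain ⟨k, hk⟩ := mem_range_theta_of_ker u hsurj hinj (ιI x) hxN
  set W := LinearMap.range (theta p B M ∘ₗ LinearMap.lTensor B (LinearMap.ker (mulN p M)).subtype)
  have key : ∀ k, ∃ n, ∃ w ∈ W, a ^ n •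
      theta p B N (LinearMap.lTensor B (LinearMap.ker (mulN p N)).subtype k) = ιI w := fun k => by
    induction k using TensorProduct.induction_on with
    | zero => exact ⟨0, 0, zero_mem _, by simp⟩
    | add k k' h h' =>
      obtain ⟨n, w, hw, h⟩ := h
      obtain ⟨n', w', hw', h'⟩ := h'
      refine ⟨n + n', a ^ n' • w + a ^ n • w', add_mem (W.smul_mem _ hw) (W.smul_mem _ hw'), ?_⟩
      simp only [map_add, map_smul, ← h, ← h', smul_add, smul_smul, pow_add]
      rw [mul_comm (a ^ n') (a ^ n)]
    | tmul c k =>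
      obtain ⟨k, hk⟩ := k
      obtain ⟨⟨k₀, ⟨_, n, rfl⟩⟩, hk₀⟩ := IsLocalizedModule.surj (Submonoid.powers a) ιp k
      have hk₀' : a ^ n • k = ιp k₀ := hk₀
      have h0 : ι (mulN p M k₀) = ι 0 := by
        rw [map_zero, ← LinearMap.comp_apply, ← hμ, LinearMap.comp_apply, ← hk₀', map_smul,
          LinearMap.mem_ker.1 hk, smul_zero]
      obtain ⟨⟨_, n', rfl⟩, hn'⟩ := (IsLocalizedModule.eq_iff_exists (Submonoid.powers a) ι).1 h0
      have hmem : a ^ n' • k₀ ∈ LinearMap.ker (mulN p M) := by
        rw [LinearMap.mem_ker, map_smul]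
        simpa [Submonoid.smul_def] using hn'
      refine ⟨n' + n, _, ⟨c ⊗ₜ ⟨_, hmem⟩, rfl⟩, ?_⟩
      rw [← LinearMap.comp_apply ιI, ← LinearMap.comp_assoc, ← hθ]
      simp only [LinearMap.comp_apply, LinearMap.lTensor_tmul, Submodule.subtype_apply, map_smul,
        TensorProduct.tmul_smul, pow_add, mul_smul]
      rw [← hk₀', TensorProduct.tmul_smul, map_smul]
  obtain ⟨n, w, hw, hkw⟩ := key k
  rw [LinearMap.comp_apply] at hk
  rw [hk, ← map_smul] at hkw
  obtain ⟨⟨_, n', rfl⟩, hn'⟩ := (IsLocalizedModule.eq_iff_exists (Submonoid.powers a) ιI).1 hkw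
  refine ⟨n' + n, ?_⟩
  rw [pow_add, mul_smul]
  rw [Submonoid.smul_def, Submonoid.smul_def] at hn'
  rw [hn']
  exact W.smul_mem _ hw

end Groth.Agent.EGA43.FlatDescent
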