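import Groth.Agent.CAlgH.FlatQuotient
import Groth.Agent.EGA43.AlgMisc

/-!
# Freeness lifts along nilpotent thickenings for flat modules
-/

universe u

set_option autoImplicit false
set_option backward.isDefEq.respectTransparency false

open TensorProduct Function

namespace Groth.Agent.EGA43.FlatDescent

/-- A flat module that is free modulo a nilpotent ideal is free. -/
theorem free_of_flat_of_free_quot {A A' : Type u} [CommRing A] [CommRing A'] [Algebra A A']
    (hsurj : Surjective (algebraMap A A')) (hnil : IsNilpotent (RingHom.ker (algebraMap A A')))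
    (M : Type u) [AddCommGroup M] [Module A M] [Module.Flat A M]
    (hfree : Module.Free A' (A' ⊗[A] M)) : Module.Free A M := by
  classical
  let J := RingHom.ker (algebraMap A A')
  let ι := TensorProduct.mk A A' M 1
  have hker : ∀ (N : Type u) [AddCommGroup N] [Module A N] (x : N),
      (1 : A') ⊗ₜ[A] x = 0 → x ∈ J • (⊤ : Submodule A N) := fun N _ _ x hx => by
    have hJ : Exact (J.subtype : J →ₗ[A] A) (Algebra.linearMap A A') := fun a =>
      ⟨fun h => ⟨⟨a, h⟩, rfl⟩, fun ⟨⟨b, hb⟩, he⟩ => he ▸ hb⟩
    obtain ⟨y, hy⟩ := (rTensor_exact N hJ hsurj (1 ⊗ₜ x)).1 (by simpa using hx)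
    have hy' : TensorProduct.lid A N (J.subtype.rTensor N y) = x := by rw [hy]; simp
    rw [← hy']
    clear hy hy'
    induction y using TensorProduct.induction_on with
    | zero => simp
    | add a b ha hb => rw [map_add, map_add]; exact add_mem ha hb
    | tmul a n =>
      rw [LinearMap.rTensor_tmul, TensorProduct.lid_tmul]
      exact Submodule.smul_mem_smul a.2 trivial
  let b := Module.Free.chooseBasis A' (A' ⊗[A] M)
  choose v hv using fun j => TensorProduct.mk_surjective A M A' hsurj (b j)
  let f : (Module.Free.ChooseBasisIndex A' (A' ⊗[A] M) →₀ A) →ₗ[A] M :=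
    Finsupp.linearCombination A v
  have hιf : ∀ y, b.repr (ι (f y)) = y.mapRange (algebraMap A A') (map_zero _) := fun y => by
    induction y using Finsupp.induction_linear with
    | zero => simp
    | add y y' h h' =>
      rw [Finsupp.mapRange_add (map_add (algebraMap A A')), ← h, ← h', map_add, map_add, map_add]
    | single j c =>
      rw [Finsupp.mapRange_single]
      show b.repr (ι (Finsupp.linearCombination A v (Finsupp.single j c))) = _
      rw [Finsupp.linearCombination_single, map_smul,
        show ι (v j) = b j from hv j, ← algebraMap_smul A' c (b j), map_smul, b.repr_self,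
        Finsupp.smul_single, smul_eq_mul, mul_one]
  have hfs : Surjective f := by
    rw [← LinearMap.range_eq_top]
    refine EGA43.eq_top_of_sup_smul_top hnil _ (Submodule.eq_top_iff'.2 fun m => ?_)
    obtain ⟨y, hy⟩ := Finsupp.mapRange_surjective _ (map_zero (algebraMap A A')) hsurj (b.repr (ι m))
    rw [← add_sub_cancel (f y) m]
    refine Submodule.add_mem_sup ⟨y, rfl⟩ (hker M _ ?_)
    show ι (m - f y) = 0
    apply b.repr.injective
    rw [map_sub, map_sub, hιf, hy, sub_self, map_zero]
  have : Module.Flat A ((Module.Free.ChooseBasisIndex A' (A' ⊗[A] M) →₀ A) ⧸ LinearMap.ker f) :=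
    Module.Flat.of_linearEquiv (f.quotKerEquivOfSurjective hfs)
  have hle : LinearMap.ker f ≤ J • LinearMap.ker f := by
    intro y hy
    refine CAlgH.inf_smul_top_le_of_flat_quotient (LinearMap.ker f) J ⟨hy, ?_⟩
    have h0 : y.mapRange (algebraMap A A') (map_zero _) = 0 := by
      rw [← hιf, LinearMap.mem_ker.1 hy, map_zero, map_zero]
    rw [← Finsupp.sum_single y]
    refine Submodule.sum_mem _ fun j _ => ?_
    rw [← mul_one (y j), ← smul_eq_mul, ← Finsupp.smul_single]
    exact Submodule.smul_mem_smul (by simpa [J] using DFunLike.congr_fun h0 j) trivial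
  have hfi : Injective f := by
    rw [← LinearMap.ker_eq_bot]
    obtain ⟨n, hn⟩ := hnil
    have key : ∀ n, LinearMap.ker f ≤ J ^ n • LinearMap.ker f := by
      intro n
      induction n with
      | zero => simp
      | succ n ih =>
        refine hle.trans ?_
        rw [pow_succ', Submodule.mul_smul]
        exact Submodule.smul_mono le_rfl ih
    refine eq_bot_iff.2 ((key n).trans ?_)
    rw [show J ^ n = 0 from hn]
    simp
  exact .of_equiv (LinearEquiv.ofBijective f ⟨hfi, hfs⟩)

end Groth.Agent.EGA43.FlatDescent
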