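import Groth.Agent.EGA43.FlatDescent.Main
import Groth.Agent.EGA43.FlatDescent.NilFree
import Mathlib.RingTheory.Nilpotent.Lemmas
import Mathlib.RingTheory.Ideal.MinimalPrime.Noetherian

/-!
# Generic freeness along minimal primes and stratifications for flat models
-/

universe u

set_option autoImplicit false
set_option backward.isDefEq.respectTransparency false

open TensorProduct Function

namespace Groth.Agent.EGA43.FlatDescent

variable {R₀ P₀ M₀ : Type u} [CommRing R₀] [CommRing P₀] [Algebra R₀ P₀] [AddCommGroup M₀]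
  [Module R₀ M₀] [Module P₀ M₀] [IsScalarTower R₀ P₀ M₀] [Algebra.FiniteType R₀ P₀]
  [Module.Finite P₀ M₀]

variable (P₀) in
include P₀ in
set_option maxHeartbeats 1000000 in
set_option synthInstance.maxHeartbeats 100000 in
/-- A flat model over a Noetherian ring becomes free after inverting one element outside a prime
that is nil up to a factor `b`. -/
theorem stage_free {C : Type u} [CommRing C] [Algebra R₀ C]
    [IsNoetherianRing C] [Module.Flat C (C ⊗[R₀] M₀)] (pC : Ideal C) [pC.IsPrime]
    (b : C) (hb : b ∉ pC) (hnil : ∀ x ∈ pC, IsNilpotent (b * x)) :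
    ∃ a ∉ pC, Module.Free (Localization.Away a) (Localization.Away a ⊗[R₀] M₀) := by
  let _ : Module (C ⊗[R₀] P₀) (C ⊗[R₀] M₀) := bcModule R₀ P₀ M₀ C
  have : Module.Finite (C ⊗[R₀] P₀) (C ⊗[R₀] M₀) := finite_bc R₀ P₀ M₀ C
  have : Algebra.FiniteType C (C ⊗[R₀] P₀) := Algebra.FiniteType.baseChange (A := P₀) C
  obtain ⟨f, hf0, hfree₀⟩ := FlatOpen.gFree_baseChange C (C ⊗[R₀] P₀) (C ⊗[R₀] M₀) (C ⧸ pC)
  obtain ⟨a₀, rfl⟩ := Ideal.Quotient.mk_surjective f
  have ha₀ : a₀ ∉ pC := fun h => hf0 (Ideal.Quotient.eq_zero_iff_mem.2 h)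
  obtain ⟨a, hadef⟩ : ∃ a, a = a₀ * b := ⟨_, rfl⟩
  have ha : a ∉ pC := fun h => ((‹pC.IsPrime›.mem_or_mem (hadef ▸ h))).elim ha₀ hb
  have hfree : Module.Free (Localization.Away (Ideal.Quotient.mk pC a))
      (Localization.Away (Ideal.Quotient.mk pC a) ⊗[C ⧸ pC] ((C ⧸ pC) ⊗[C] (C ⊗[R₀] M₀))) := by
    rw [hadef, map_mul]
    exact GenFree.free_refine _ _ _ hfree₀
  let Lb := Localization.Away (Ideal.Quotient.mk pC a)
  let χ : Localization.Away a →+* Lb :=
    IsLocalization.Away.lift (S := Localization.Away a) a (g := algebraMap C Lb) (by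
      rw [IsScalarTower.algebraMap_apply C (C ⧸ pC) Lb, Ideal.Quotient.algebraMap_eq]
      exact IsLocalization.Away.algebraMap_isUnit _)
  have hχ : ∀ c, χ (algebraMap C _ c) = algebraMap C Lb c := fun c =>
    IsLocalization.Away.lift_eq (S := Localization.Away a) a _ c
  let _ : Algebra (Localization.Away a) Lb := χ.toAlgebra
  have : IsScalarTower C (Localization.Away a) Lb := .of_algebraMap_eq fun c => (hχ c).symm
  have : IsScalarTower R₀ (Localization.Away a) Lb := .of_algebraMap_eq fun r => by
    rw [IsScalarTower.algebraMap_apply R₀ C Lb, IsScalarTower.algebraMap_apply R₀ C (Localization.Away a)]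
    exact (hχ _).symm
  have hsurj : Function.Surjective (algebraMap (Localization.Away a) Lb) := fun z => by
    obtain ⟨n, r, h⟩ := IsLocalization.Away.surj (Ideal.Quotient.mk pC a) z
    obtain ⟨r, rfl⟩ := Ideal.Quotient.mk_surjective r
    obtain ⟨v, hv⟩ := (IsLocalization.Away.algebraMap_isUnit a (S := Localization.Away a)).pow n
    refine ⟨algebraMap C _ r * (↑v⁻¹ : Localization.Away a), ?_⟩
    apply ((IsLocalization.Away.algebraMap_isUnit (Ideal.Quotient.mk pC a) (S := Lb)).pow n).mul_left_injective
    show χ _ * _ = z * _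
    rw [h]
    have he : algebraMap (C ⧸ pC) Lb (Ideal.Quotient.mk pC a) ^ n = χ ↑v := by
      rw [hv, map_pow, hχ]; rfl
    rw [he, ← map_mul, mul_assoc, Units.inv_mul, mul_one, hχ]
    rfl
  have hker : IsNilpotent (RingHom.ker (algebraMap (Localization.Away a) Lb)) := by
    have : IsNoetherianRing (Localization.Away a) :=
      IsLocalization.isNoetherianRing (Submonoid.powers a) _ inferInstance
    have hle : RingHom.ker (algebraMap (Localization.Away a) Lb) ≤ nilradical (Localization.Away a) := by
      intro z hz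
      obtain ⟨n, r, h⟩ := IsLocalization.Away.surj a z
      have h0 : algebraMap (C ⧸ pC) Lb (Ideal.Quotient.mk pC r) = 0 := by
        show algebraMap C Lb r = 0
        rw [← hχ, ← h, map_mul, show χ z = 0 from hz, zero_mul]
      obtain ⟨⟨_, k, rfl⟩, hk⟩ := (IsLocalization.map_eq_zero_iff
        (Submonoid.powers (Ideal.Quotient.mk pC a)) Lb _).1 h0
      have hr : r ∈ pC := by
        have hk' : a ^ k * r ∈ pC := by
          rw [← Ideal.Quotient.eq_zero_iff_mem, map_mul, map_pow]; exact hk
        exact (‹pC.IsPrime›.mem_or_mem hk').resolve_left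
          (fun h => ha (‹pC.IsPrime›.mem_of_pow_mem k h))
      have hu : IsUnit (algebraMap C (Localization.Away a) b) :=
        isUnit_of_dvd_unit (map_dvd (algebraMap C (Localization.Away a)) (hadef ▸ dvd_mul_left b a₀))
          (IsLocalization.Away.algebraMap_isUnit a)
      have hz' : IsNilpotent (z * algebraMap C (Localization.Away a) a ^ n *
          algebraMap C (Localization.Away a) b) := by
        rw [h, ← map_mul, mul_comm]; exact (hnil r hr).map _
      obtain ⟨m, hm⟩ := hz'
      refine ⟨m, ?_⟩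
      rw [mul_pow, mul_pow] at hm
      exact ((((IsLocalization.Away.algebraMap_isUnit a).pow n).pow m).mul_left_eq_zero).1
        ((hu.pow m).mul_left_eq_zero.1 hm)
    obtain ⟨m, hm⟩ := IsNoetherianRing.isNilpotent_nilradical (Localization.Away a)
    exact ⟨m, le_bot_iff.1 ((Ideal.pow_right_mono hle m).trans hm.le)⟩
  have hflatC : Module.Flat (Localization.Away a) (Localization.Away a ⊗[R₀] M₀) :=
    Module.Flat.of_linearEquiv
      (AlgebraTensorModule.cancelBaseChange R₀ C (Localization.Away a) (Localization.Away a) M₀).symm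
  have hfreeL : Module.Free Lb (Lb ⊗[Localization.Away a] (Localization.Away a ⊗[R₀] M₀)) :=
    .of_equiv ((AlgebraTensorModule.cancelBaseChange C (C ⧸ pC) Lb Lb (C ⊗[R₀] M₀)) ≪≫ₗ
      (AlgebraTensorModule.cancelBaseChange R₀ C Lb Lb M₀) ≪≫ₗ
      (AlgebraTensorModule.cancelBaseChange R₀ (Localization.Away a) Lb Lb M₀).symm)
  have hfreeC : Module.Free (Localization.Away a) (Localization.Away a ⊗[R₀] M₀) :=
    free_of_flat_of_free_quot hsurj hker _ hfreeL
  exact ⟨a, ha, hfreeC⟩

/-- Free models base change along algebra maps. -/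
theorem free_of_hom {X Y : Type u} [CommRing X] [Algebra R₀ X] [CommRing Y] [Algebra R₀ Y]
    (φ : X →ₐ[R₀] Y) (h : Module.Free X (X ⊗[R₀] M₀)) : Module.Free Y (Y ⊗[R₀] M₀) := by
  let _ : Algebra X Y := φ.toRingHom.toAlgebra
  have : IsScalarTower R₀ X Y := .of_algebraMap_eq fun r => (φ.commutes r).symm
  exact .of_equiv (AlgebraTensorModule.cancelBaseChange R₀ X Y Y M₀)

/-- Free strata of `Spec (C ⧸ I)`. -/
def Stratified (R : Type u) [CommRing R] {C : Type u} [CommRing C] [Algebra R C] (M : Type u)
    [AddCommGroup M] [Module R M] (I : Ideal C) : Prop :=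
  ∃ l : List C, I ⊔ Ideal.span {a | a ∈ l} = ⊤ ∧ ∀ (i : ℕ) (hi : i < l.length),
    letI J : Ideal (Localization.Away l[i]) :=
      (I ⊔ Ideal.span {a | a ∈ l.take i}).map (algebraMap C (Localization.Away l[i]))
    Module.Free (Localization.Away l[i] ⧸ J) ((Localization.Away l[i] ⧸ J) ⊗[R] M)

variable (P₀) in
include P₀ in
set_option maxHeartbeats 1000000 in
/-- A flat model over a Noetherian ring is free on the strata of a finite stratification. -/
theorem stratified {C : Type u} [CommRing C] [Algebra R₀ C]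
    [IsNoetherianRing C] [Module.Flat C (C ⊗[R₀] M₀)] (I : Ideal C) : Stratified R₀ M₀ I := by
  classical
  induction I using IsNoetherian.induction with
  | hgt I ih =>
    by_cases hI : I = ⊤
    · exact ⟨[], by simp [hI], fun i hi => absurd hi (Nat.not_lt_zero i)⟩
    have : Nontrivial (C ⧸ I) := Ideal.Quotient.nontrivial_iff.2 hI
    have : Module.Flat (C ⧸ I) ((C ⧸ I) ⊗[R₀] M₀) :=
      Module.Flat.of_linearEquiv (AlgebraTensorModule.cancelBaseChange R₀ C (C ⧸ I) (C ⧸ I) M₀).symm
    obtain ⟨p, hp⟩ := Ideal.nonempty_minimalPrimes (I := (⊥ : Ideal (C ⧸ I))) bot_ne_top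
    have := hp.isPrime
    have hfin := Ideal.finite_minimalPrimes_of_isNoetherianRing (C ⧸ I) ⊥
    have hb : ∀ P ∈ hfin.toFinset.erase p, ∃ x ∈ P, x ∉ p := fun P hP => by
      obtain ⟨hne, hP⟩ := Finset.mem_erase.1 hP
      refine SetLike.not_le_iff_exists.1 fun hle => hne (le_antisymm hle ?_)
      exact hp.2 (hfin.mem_toFinset.1 hP).1 hle
    choose! x hxP hxp using hb
    obtain ⟨a', ha', hfree⟩ := stage_free (R₀ := R₀) P₀ (M₀ := M₀) p
      (∏ P ∈ hfin.toFinset.erase p, x P)
      (fun h => by
        obtain ⟨P, hP, hxP'⟩ := Ideal.IsPrime.prod_mem_iff.1 h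
        exact hxp P hP hxP')
      (fun y hy => by
        rw [← mem_nilradical, nilradical, ← Ideal.sInf_minimalPrimes, Ideal.mem_sInf]
        intro P hP
        by_cases h : P = p
        · rw [h]; exact p.mul_mem_left _ hy
        · have hP' : P ∈ hfin.toFinset.erase p := Finset.mem_erase.2 ⟨h, hfin.mem_toFinset.2 hP⟩
          exact P.mul_mem_right _ (P.mem_of_dvd (Finset.dvd_prod_of_mem x hP') (hxP P hP')))
    obtain ⟨a, rfl⟩ := Ideal.Quotient.mk_surjective a'
    have haI : a ∉ I := fun h => ha' (by rw [Ideal.Quotient.eq_zero_iff_mem.2 h]; exact zero_mem _)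
    obtain ⟨l, hl, hfreel⟩ := ih (I ⊔ Ideal.span {a})
      (left_lt_sup.2 fun hle => haI (hle (Ideal.mem_span_singleton_self a)))
    have hcons : ∀ l' : List C, Ideal.span {b | b ∈ a :: l'} = Ideal.span {a} ⊔ Ideal.span {b | b ∈ l'} :=
      fun l' => by
        rw [← Ideal.span_union]
        congr 1
        ext b; simp
    refine ⟨a :: l, by rw [hcons, ← sup_assoc, hl], fun i hi => ?_⟩
    match i, hi with
    | 0, _ =>
      let J : Ideal (Localization.Away a) :=
        Ideal.map (algebraMap C (Localization.Away a)) (I ⊔ Ideal.span {b | b ∈ (a :: l).take 0})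
      let g : C ⧸ I →ₐ[R₀] Localization.Away a ⧸ J :=
        Ideal.Quotient.liftₐ I (IsScalarTower.toAlgHom R₀ C (Localization.Away a ⧸ J)) fun y hy => by
          show algebraMap C (Localization.Away a ⧸ J) y = 0
          rw [IsScalarTower.algebraMap_apply C (Localization.Away a) (Localization.Away a ⧸ J),
            Ideal.Quotient.algebraMap_eq, Ideal.Quotient.eq_zero_iff_mem]
          exact Ideal.mem_map_of_mem _ (Ideal.mem_sup_left hy)
      have hga : IsUnit (g (Ideal.Quotient.mk I a)) := by
        show IsUnit (algebraMap C (Localization.Away a ⧸ J) a)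
        rw [IsScalarTower.algebraMap_apply C (Localization.Away a) (Localization.Away a ⧸ J)]
        exact (IsLocalization.Away.algebraMap_isUnit a).map _
      let φ : Localization.Away (Ideal.Quotient.mk I a) →ₐ[R₀] Localization.Away a ⧸ J :=
        { IsLocalization.Away.lift (S := Localization.Away (Ideal.Quotient.mk I a))
            (Ideal.Quotient.mk I a) (g := g.toRingHom) hga with
          commutes' := fun r => by
            show IsLocalization.Away.lift (S := Localization.Away (Ideal.Quotient.mk I a))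
              (Ideal.Quotient.mk I a) (g := g.toRingHom) hga (algebraMap R₀ _ r) = _
            rw [IsScalarTower.algebraMap_apply R₀ (C ⧸ I) (Localization.Away (Ideal.Quotient.mk I a)),
              IsLocalization.Away.lift_eq]
            exact g.commutes r }
      exact free_of_hom φ hfree
    | i + 1, hi =>
      have hi' : i < l.length := by simpa using hi
      have hJ : I ⊔ Ideal.span {b | b ∈ (a :: l).take (i + 1)} =
          I ⊔ Ideal.span {a} ⊔ Ideal.span {b | b ∈ l.take i} := by
        rw [List.take_succ_cons, hcons, sup_assoc]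
      simp only [List.getElem_cons_succ]
      suffices H : ∀ K : Ideal C, K = I ⊔ Ideal.span {a} ⊔ Ideal.span {b | b ∈ l.take i} →
          Module.Free (Localization.Away l[i] ⧸ Ideal.map (algebraMap C (Localization.Away l[i])) K)
            ((Localization.Away l[i] ⧸ Ideal.map (algebraMap C (Localization.Away l[i])) K) ⊗[R₀] M₀)
        from H _ hJ
      rintro K rfl
      exact hfreel i hi'

end Groth.Agent.EGA43.FlatDescent
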